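import Cfsg.Agent.TwoLength.Bryukhanova.Layer
import Cfsg.Agent.S3783

/-!
The `2`-length is at most the exponent of a Sylow `2`-subgroup.
-/

set_option linter.style.haveILetI false
set_option linter.unusedSectionVars false

namespace Cfsg.Lib.TwoLength

open Module Subgroup Cfsg.Lib.HallHigman Cfsg.Lib.PLengthSeries

universe u

/-- The length is at most the exponent. -/
def HighLength (m : ℕ) : Prop :=
  ∀ (G : Type u) [Group G] [Finite G], Cfsg.IsPSolvable 2 G →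
    (∀ (P : Sylow 2 G), ∀ x ∈ (P : Subgroup G), x ^ 2 ^ m = 1) → Cfsg.PLengthLE 2 m G

theorem pLengthLE_zero_of_sylow {G : Type u} [Group G] [Finite G]
    (h : ∀ (P : Sylow 2 G), ∀ x ∈ (P : Subgroup G), x = 1) : Cfsg.PLengthLE 2 0 G := by
  haveI : Fact (Nat.Prime 2) := ⟨Nat.prime_two⟩
  rw [pLengthLE_zero_iff, Nat.coprime_comm, Nat.prime_two.coprime_iff_not_dvd]
  intro hd
  obtain ⟨P⟩ : Nonempty (Sylow 2 G) := inferInstance
  exact P.ne_bot_of_dvd_card hd ((eq_bot_iff_forall _).2 (h P))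

theorem highLength_zero : HighLength.{u} 0 := fun G _ _ _ hexp =>
  pLengthLE_zero_of_sylow fun P x hx => by simpa using hexp P x hx

theorem lowLength_zero : LowLength.{u} 0 := fun Γ _ _ W _ _ _ σ _ _ hσ _ hdeg =>
  pLengthLE_zero_of_sylow fun P x hx => hσ (by
    have h := hdeg P x hx
    rw [show 2 ^ (0 + 1) - 1 = 1 from rfl, pow_one, sub_eq_zero] at h
    rw [h, map_one])

theorem highLength_succ (n : ℕ) (hlow : LowLength.{u} n) : HighLength.{u} (n + 1) := by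
  intro G _ _ hsol hexp
  haveI : Fact (Nat.Prime 2) := ⟨Nat.prime_two⟩
  set π := QuotientGroup.mk' (Cfsg.pPrimeCore 2 G)
  have hπ : Function.Surjective π := QuotientGroup.mk'_surjective _
  have hO : Cfsg.pPrimeCore 2 (G ⧸ Cfsg.pPrimeCore 2 G) = ⊥ := Cfsg.Lib.Coprime.pPrimeCore_quotient_eq_bot
  have hsol1 := Cfsg.Lib.GaschutzYen.isPSolvable_quotient (p := 2) (Cfsg.pPrimeCore 2 G) hsol
  have hexp1 := Cfsg.Agent.S3783.exp_map π hπ hexp
  set ρ := QuotientGroup.mk' (Cfsg.pCore 2 (G ⧸ Cfsg.pPrimeCore 2 G))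
  have hρ : Function.Surjective ρ := QuotientGroup.mk'_surjective _
  obtain ⟨V, iA, iM, iF, σ, hσ, hnorm⟩ := exists_faithful_module hsol1 hO (n + 1) hexp1
  have hexp2 := Cfsg.Agent.S3783.exp_map ρ hρ hexp1
  have h := hlow _ V σ (Cfsg.Lib.GaschutzYen.isPSolvable_quotient (p := 2) _ hsol1) pCore_quotient_pCore hσ hexp2
    (fun P x hx => by
      obtain ⟨j, -, hj⟩ := (Nat.dvd_prime_pow Nat.prime_two).1 (orderOf_dvd_of_pow_eq_one (hexp2 P x hx))
      exact hnorm x ⟨j, hj⟩)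
  have h1 : Cfsg.PLengthLE 2 0 π.ker := by
    rw [pLengthLE_zero_iff, QuotientGroup.ker_mk']
    exact Cfsg.Lib.Components.coprime_card_pPrimeCore 2
  have h2 : Cfsg.PLengthLE 2 1 ρ.ker := pLengthLE_one_of_isPGroup (by
    rw [QuotientGroup.ker_mk']; exact Cfsg.Lib.Components.isPGroup_pCore 2)
  have h4 := pLengthLE_extend π h1 (pLengthLE_extend ρ h2 h)
  rwa [zero_add, add_comm] at h4

theorem lowLength_succ (k : ℕ) (hlow : LowLength.{u} k) (hhigh : HighLength.{u} (k + 1)) :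
    LowLength.{u} (k + 1) := by
  intro H _ _ W _ _ _ σ hsol hO hσ hexp hdeg
  haveI : Fact (Nat.Prime 2) := ⟨Nat.prime_two⟩
  rcases subsingleton_or_nontrivial W with hW | hW
  · haveI : Subsingleton H := ⟨fun a b => hσ (LinearMap.ext fun _ => Subsingleton.elim _ _)⟩
    exact top_le_iff.1 fun x _ => by rw [Subsingleton.elim x 1]; exact one_mem _
  let b := Module.finBasis (ZMod 2) W
  let ι := AlgebraicClosure (ZMod 2)
  haveI : CharP ι 2 := charP_of_injective_algebraMap (algebraMap (ZMod 2) ι).injective 2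
  haveI : Nonempty (Fin (finrank (ZMod 2) W)) := ⟨⟨0, Module.finrank_pos⟩⟩
  let Φ : Module.End (ZMod 2) W →+* Module.End ι (Fin (Module.finrank (ZMod 2) W) → ι) :=
    ((Matrix.toLinAlgEquiv' : Matrix _ _ ι ≃ₐ[ι] _).toRingEquiv.toRingHom.comp
      (algebraMap (ZMod 2) ι).mapMatrix).comp (LinearMap.toMatrixAlgEquiv b).toRingEquiv.toRingHom
  have hΦ : Function.Injective Φ := by
    intro f g e
    exact (LinearMap.toMatrixAlgEquiv b).injective
      (Matrix.map_injective (algebraMap (ZMod 2) ι).injective (Matrix.toLinAlgEquiv'.injective e))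
  set ρ := Φ.toMonoidHom.comp σ
  have hρ : Function.Injective ρ := hΦ.comp hσ
  have hdegS : ∀ (P : Sylow 2 H), ∀ s ∈ (P : Subgroup H), (ρ s - 1) ^ (2 ^ (k + 2) - 1) = 0 := by
    intro P s hs
    show (Φ (σ s) - 1) ^ _ = 0
    rw [← map_one Φ, ← map_sub, ← map_pow, hdeg P s hs, map_zero]
  set π := QuotientGroup.mk' (Cfsg.pPrimeCore 2 H)
  have hπ : Function.Surjective π := QuotientGroup.mk'_surjective _
  have hO' : Cfsg.pPrimeCore 2 (H ⧸ Cfsg.pPrimeCore 2 H) = ⊥ := Cfsg.Lib.Coprime.pPrimeCore_quotient_eq_bot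
  have hsol1 := Cfsg.Lib.GaschutzYen.isPSolvable_quotient (p := 2) (Cfsg.pPrimeCore 2 H) hsol
  have hexp1 := Cfsg.Agent.S3783.exp_map π hπ hexp
  have hrel : ∀ P : Sylow 2 (H ⧸ Cfsg.pPrimeCore 2 H), ∃ F : Subgroup (H ⧸ Cfsg.pPrimeCore 2 H),
      (P : Subgroup _) ≤ normalizer (F : Set (H ⧸ Cfsg.pPrimeCore 2 H)) ∧
      (∀ s ∈ (P : Subgroup _), s ^ 2 ^ (k + 1) ∈ F) ∧ ∀ g ∈ (P : Subgroup _), ∀ x ∈ (P : Subgroup _), ∀ e,
        e = g ^ 2 ^ (k + 1 - 1) * (x ^ 2 ^ (k + 1 - 1))⁻¹ → e ^ 2 ∈ F → e ^ 4 = 1 → Commute e (x ^ 2 ^ (k + 1)) := by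
    intro P
    obtain ⟨S, rfl⟩ := Sylow.mapSurjective_surjective hπ 2 P
    have hinj : ∀ a ∈ (S : Subgroup H), π a = 1 → a = 1 := by
      intro a ha h
      refine Cfsg.Lib.Coprime.eq_one_of_coprime ?_ ha ((QuotientGroup.eq_one_iff a).1 h)
      obtain ⟨i, hi⟩ := IsPGroup.iff_card.1 S.2
      rw [hi]
      exact (Cfsg.Lib.Components.coprime_card_pPrimeCore (G := H) 2).symm.pow_left _
    refine ⟨(fixGroup (S : Subgroup H)).map π, ?_, ?_, ?_⟩
    · exact (map_mono (le_normalizer_fixGroup _)).trans (le_normalizer_map π)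
    · rintro _ ⟨s, hs, rfl⟩
      rw [← map_pow]
      exact mem_map_of_mem _ (pow_mem_fixGroup _ hρ _ (k + 1) (hexp S) (hdegS S) hs)
    · rintro _ ⟨g, hg, rfl⟩ _ ⟨x, hx, rfl⟩ e rfl he2 he4
      rw [← map_pow, ← map_pow, ← map_inv, ← map_mul] at he2 he4 ⊢
      have heS : g ^ 2 ^ (k + 1 - 1) * (x ^ 2 ^ (k + 1 - 1))⁻¹ ∈ (S : Subgroup H) :=
        mul_mem (pow_mem hg _) (inv_mem (pow_mem hx _))
      rw [← map_pow] at he2 he4
      obtain ⟨f, hf, hfe⟩ := he2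
      have hfeq : f = (g ^ 2 ^ (k + 1 - 1) * (x ^ 2 ^ (k + 1 - 1))⁻¹) ^ 2 := by
        refine mul_inv_eq_one.1 (hinj _ (mul_mem (fixGroup_le _ hf) (inv_mem (pow_mem heS _))) ?_)
        rw [map_mul, map_inv, hfe, mul_inv_cancel]
      rw [← map_pow]
      exact (agemo_relation hsol hO _ hρ S S.2 (k + 1) (hexp S) (hdegS S)
        g x hg hx _ rfl (hfeq ▸ hf) (hinj _ (pow_mem heS _) he4)).map π
  have hpow : ∀ (P : Sylow 2 H), ∀ x ∈ (P : Subgroup H),
      π (x ^ 2 ^ (k + 1)) ∈ Cfsg.pCore 2 (H ⧸ Cfsg.pPrimeCore 2 H) := fun P x hx => by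
    rw [map_pow]
    exact pow_mem_pCore (k + 1) (by omega) hsol1 hO' hexp1 hrel (P.mapSurjective hπ) (π x) (mem_map_of_mem _ hx)
  set J := (normFix H).map π ⊓ Cfsg.pCore 2 (H ⧸ Cfsg.pPrimeCore 2 H)
  haveI : ((normFix H).map π).Normal := normFix_normal.map π hπ
  haveI := Cfsg.Lib.Components.pCore_normal' (G := H ⧸ Cfsg.pPrimeCore 2 H) 2
  have hlayer : Cfsg.PLengthLE 2 (k + 1) (H ⧸ Cfsg.pPrimeCore 2 H) := by
    refine pLengthLE_of_layer hO' J inf_le_right k ?_ fun C hC hJC _ hmove =>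
      exists_layer_quotient hsol hO ρ hρ k hexp hdegS hlow π hπ ?_ hpow C hC hJC hmove
    · refine hhigh _ (Cfsg.Lib.GaschutzYen.isPSolvable_quotient (p := 2) J hsol1) fun P x hx => ?_
      obtain ⟨P', rfl⟩ := Sylow.mapSurjective_surjective (QuotientGroup.mk'_surjective J) 2 P
      obtain ⟨y, hy, rfl⟩ := hx
      obtain ⟨S, rfl⟩ := Sylow.mapSurjective_surjective hπ 2 P'
      obtain ⟨s, hs, rfl⟩ := hy
      rw [← map_pow, ← map_pow]
      exact (QuotientGroup.eq_one_iff _).2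
        ⟨mem_map_of_mem π (fixGroup_le_normFix (S : Subgroup H) (pow_mem_fixGroup _ hρ _ (k + 1) (hexp S) (hdegS S) hs)),
          hpow S s hs⟩
    · rw [QuotientGroup.ker_mk']
      exact Cfsg.Lib.Components.coprime_card_pPrimeCore 2
  have h1 : Cfsg.PLengthLE 2 0 π.ker := by
    rw [pLengthLE_zero_iff, QuotientGroup.ker_mk']
    exact Cfsg.Lib.Components.coprime_card_pPrimeCore 2
  have h := pLengthLE_extend π h1 hlayer
  rwa [zero_add] at h

theorem lengths : ∀ n : ℕ, HighLength.{u} n ∧ LowLength.{u} n := by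
  intro n
  induction n with
  | zero => exact ⟨highLength_zero, lowLength_zero⟩
  | succ n ih =>
    have h := highLength_succ n ih.2
    exact ⟨h, lowLength_succ n ih.2 h⟩

end Cfsg.Lib.TwoLength
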