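import Mathlib
import Cfsg.Agent.SolvStruct.PLengthSeries

/-!
The `p`-length of a subdirect product, and of a group with a marked normal `p`-subgroup.
-/

set_option linter.style.haveILetI false
set_option linter.unusedSectionVars false

namespace Cfsg.Lib.TwoLength

open Subgroup Cfsg.Lib.PLengthSeries

universe u v w

theorem relIndex_inf_dvd_mul {G : Type u} [Group G] [Finite G] (A B X : Subgroup G) [A.Normal] [B.Normal] :
    (A ⊓ B).relIndex X ∣ A.relIndex X * B.relIndex X := by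
  set φ := (QuotientGroup.mk' A).prod (QuotientGroup.mk' B) with hφ
  have hker : φ.ker = A ⊓ B := by
    rw [hφ, MonoidHom.ker_prod, QuotientGroup.ker_mk', QuotientGroup.ker_mk']
  have hA : A.relIndex X = Nat.card (X.map (QuotientGroup.mk' A)) := by
    rw [← Subgroup.relIndex_ker, QuotientGroup.ker_mk']
  have hB : B.relIndex X = Nat.card (X.map (QuotientGroup.mk' B)) := by
    rw [← Subgroup.relIndex_ker, QuotientGroup.ker_mk']
  rw [← hker, Subgroup.relIndex_ker, hA, hB,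
    ← (Nat.card_congr (Subgroup.prodEquiv (X.map (QuotientGroup.mk' A)) (X.map (QuotientGroup.mk' B))).toEquiv).trans
      (Nat.card_prod _ _)]
  refine card_dvd_of_le ?_
  rintro _ ⟨x, hx, rfl⟩
  exact ⟨mem_map_of_mem _ hx, mem_map_of_mem _ hx⟩

/-- The `p`-length of a subdirect product. -/
theorem pLengthLE_pair {G : Type u} [Group G] [Finite G] {A : Type v} [Group A] [Finite A] {B : Type w} [Group B]
    [Finite B] {p : ℕ} [Fact p.Prime] (f₁ : G →* A) (f₂ : G →* B) (hker : f₁.ker ⊓ f₂.ker = ⊥) {k : ℕ}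
    (hA : Cfsg.PLengthLE p k A) (hB : Cfsg.PLengthLE p k B) : Cfsg.PLengthLE p k G := by
  have key : ∀ j, (Cfsg.upperPSeries p A j).1.comap f₁ ⊓ (Cfsg.upperPSeries p B j).1.comap f₂ ≤
      (Cfsg.upperPSeries p G j).1 := by
    intro j
    induction j with
    | zero => simp [Cfsg.upperPSeries, hker]
    | succ j ih =>
      haveI := (Cfsg.upperPSeries p A j).2
      haveI := (Cfsg.upperPSeries p B j).2
      haveI := (Cfsg.upperPSeries p A (j + 1)).2
      haveI := (Cfsg.upperPSeries p B (j + 1)).2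
      set X := (Cfsg.upperPSeries p A (j + 1)).1.comap f₁ ⊓ (Cfsg.upperPSeries p B (j + 1)).1.comap f₂
      have h1 : ((Cfsg.upperPSeries p A j).1.comap f₁).relIndex X ∣
          (Cfsg.upperPSeries p A j).1.relIndex (Cfsg.upperPSeries p A (j + 1)).1 := by
        rw [Subgroup.relIndex_comap, ← QuotientGroup.ker_mk' (Cfsg.upperPSeries p A j).1, Subgroup.relIndex_ker,
          Subgroup.relIndex_ker]
        exact card_dvd_of_le (Subgroup.map_mono ((Subgroup.map_mono inf_le_left).trans (map_comap_le f₁ _)))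
      have h2 : ((Cfsg.upperPSeries p B j).1.comap f₂).relIndex X ∣
          (Cfsg.upperPSeries p B j).1.relIndex (Cfsg.upperPSeries p B (j + 1)).1 := by
        rw [Subgroup.relIndex_comap, ← QuotientGroup.ker_mk' (Cfsg.upperPSeries p B j).1, Subgroup.relIndex_ker,
          Subgroup.relIndex_ker]
        exact card_dvd_of_le (Subgroup.map_mono ((Subgroup.map_mono inf_le_right).trans (map_comap_le f₂ _)))
      have hd := ((relIndex_dvd_of_le_left X ih).trans (relIndex_inf_dvd_mul _ _ X)).trans (mul_dvd_mul h1 h2)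
      by_cases hj : Even j
      · exact le_succ_of_coprime hj (Nat.Coprime.coprime_dvd_left hd
          (Nat.Coprime.mul_left (relIndex_succ_even hj) (relIndex_succ_even hj)))
      · obtain ⟨a, ha⟩ := relIndex_succ_odd (p := p) (G := A) hj
        obtain ⟨b, hb⟩ := relIndex_succ_odd (p := p) (G := B) hj
        rw [ha, hb, ← pow_add] at hd
        obtain ⟨c, -, hc⟩ := (Nat.dvd_prime_pow Fact.out).1 hd
        exact le_succ_of_pow hj ⟨c, hc⟩
  have h := key (2 * k + 1)
  rw [show (Cfsg.upperPSeries p A (2 * k + 1)).1 = ⊤ from hA,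
    show (Cfsg.upperPSeries p B (2 * k + 1)).1 = ⊤ from hB, comap_top, comap_top, inf_top_eq] at h
  exact top_le_iff.1 h

theorem pLengthLE_inf {G : Type u} [Group G] [Finite G] {p : ℕ} [Fact p.Prime] (N₁ N₂ : Subgroup G) [N₁.Normal]
    [N₂.Normal] {k : ℕ} (h₁ : Cfsg.PLengthLE p k (G ⧸ N₁)) (h₂ : Cfsg.PLengthLE p k (G ⧸ N₂)) :
    Cfsg.PLengthLE p k (G ⧸ (N₁ ⊓ N₂)) := by
  refine pLengthLE_pair (QuotientGroup.map (N₁ ⊓ N₂) N₁ (MonoidHom.id G) inf_le_left)
    (QuotientGroup.map (N₁ ⊓ N₂) N₂ (MonoidHom.id G) inf_le_right) ?_ h₁ h₂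
  rw [eq_bot_iff]
  intro x hx
  obtain ⟨g, rfl⟩ := QuotientGroup.mk_surjective x
  exact (QuotientGroup.eq_one_iff g).2 ⟨(QuotientGroup.eq_one_iff g).1 hx.1, (QuotientGroup.eq_one_iff g).1 hx.2⟩

variable {G : Type u} [Group G] [Finite G] {p : ℕ} [Fact p.Prime]

/-- A marked normal subgroup of the largest normal `p`-subgroup: the length is small when the quotient by
it has small length and every normal subgroup that moves it misses some normal subgroup of small
cotype. -/
theorem pLengthLE_of_layer (hO' : Cfsg.pPrimeCore p G = ⊥) (J : Subgroup G) [J.Normal]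
    (hJO : J ≤ Cfsg.pCore p G) (m : ℕ) (hq : Cfsg.PLengthLE p (m + 1) (G ⧸ J))
    (hmove : ∀ C : Subgroup G, C.Normal → J ≤ C → (J.relIndex C).Coprime p →
      (∃ r ∈ C, (orderOf r).Coprime p ∧ ∃ j ∈ J, r * j ≠ j * r) →
      ∃ (N : Subgroup G) (_ : N.Normal), Cfsg.pCore p G ≤ N ∧ ¬ C ≤ N ∧ Cfsg.PLengthLE p m (G ⧸ N)) :
    Cfsg.PLengthLE p (m + 1) G := by
  classical
  set O := Cfsg.pCore p G with hOdef
  have hOp : IsPGroup p O := Cfsg.Lib.Components.isPGroup_pCore p
  haveI hOn : O.Normal := Cfsg.Lib.Components.pCore_normal' p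
  have htop : Cfsg.PLengthLE p m (G ⧸ (⊤ : Subgroup G)) := by
    haveI : Subsingleton (G ⧸ (⊤ : Subgroup G)) := QuotientGroup.subsingleton_quotient_top
    exact top_le_iff.1 fun x _ => by rw [Subsingleton.elim x 1]; exact one_mem _
  obtain ⟨C, ⟨hCn, hOC, hClen⟩, hCmin⟩ := WellFounded.has_min (wellFounded_lt (α := Subgroup G))
    {C | ∃ _ : C.Normal, O ≤ C ∧ Cfsg.PLengthLE p m (G ⧸ C)} ⟨⊤, inferInstance, le_top, htop⟩
  haveI := hCn
  set π := QuotientGroup.mk' J
  have hπ : Function.Surjective π := QuotientGroup.mk'_surjective J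
  haveI := (Cfsg.upperPSeries p (G ⧸ J) 1).2
  haveI := (Cfsg.upperPSeries p (G ⧸ J) 2).2
  set R := (Cfsg.upperPSeries p (G ⧸ J) 1).1.comap π with hR
  set W := (Cfsg.upperPSeries p (G ⧸ J) 2).1 with hW
  have hJker : ∀ g, π g = 1 ↔ g ∈ J := fun g => QuotientGroup.eq_one_iff g
  have hJp : IsPGroup p J := hOp.to_le hJO
  -- the `p'`-part of `C` modulo `J` is trivial
  set Y := R ⊓ C with hY
  have hJY : J ≤ Y := le_inf (fun g hg => by
    show π g ∈ (Cfsg.upperPSeries p (G ⧸ J) 1).1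
    rw [(hJker g).2 hg]; exact one_mem _) (hJO.trans hOC)
  have hYcop : (J.relIndex Y).Coprime p := by
    rw [← QuotientGroup.ker_mk' J, Subgroup.relIndex_ker]
    refine Nat.Coprime.coprime_dvd_left (card_dvd_of_le ((Subgroup.map_mono inf_le_left).trans (map_comap_le π _))) ?_
    rw [series_one]
    exact Cfsg.Lib.Components.coprime_card_pPrimeCore p
  have hcen : ∀ r ∈ Y, (orderOf r).Coprime p → ∀ j ∈ J, r * j = j * r := by
    intro r hr hro j hj
    by_contra hne
    obtain ⟨N, hN, hON, hCN, hlen⟩ := hmove Y inferInstance hJY hYcop ⟨r, hr, hro, j, hj, hne⟩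
    haveI := hN
    have hlt : C ⊓ N < C := lt_of_le_of_ne inf_le_left fun e => hCN (inf_le_right.trans (inf_eq_left.1 e))
    exact hCmin (C ⊓ N) ⟨inferInstance, le_inf hOC hON, pLengthLE_inf C N hClen hlen⟩ hlt
  have hYJ : Y ≤ J := by
    set J' := J.subgroupOf Y with hJ'
    have hcard : Nat.card J' = Nat.card J := Nat.card_congr (Subgroup.subgroupOfEquivOfLe hJY).toEquiv
    have hcop : (Nat.card J').Coprime J'.index := by
      obtain ⟨i, hi⟩ := IsPGroup.iff_card.1 hJp
      rw [hcard, hi]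
      exact Nat.Coprime.pow_left i (hYcop.symm)
    obtain ⟨T, hT⟩ := Subgroup.exists_right_complement'_of_coprime hcop
    have hTcard : (Nat.card T).Coprime p := by
      rw [show Nat.card T = J'.index from hT.symm.index_eq_card.symm]
      exact hYcop
    have hTcen : ∀ t ∈ T, ∀ j ∈ J', (t : Y) * j = j * t := by
      intro t ht j hj
      refine Subtype.ext (hcen (t : G) t.2 ?_ (j : G) hj)
      refine Nat.Coprime.coprime_dvd_left ?_ hTcard
      rw [Subgroup.orderOf_coe]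
      have h := orderOf_dvd_natCard (⟨t, ht⟩ : T)
      rwa [Subgroup.orderOf_mk] at h
    haveI hTn : T.Normal := by
      refine ⟨fun t ht y => ?_⟩
      obtain ⟨⟨⟨j, hj⟩, ⟨s, hs⟩⟩, rfl⟩ := hT.2 y
      show j * s * t * (j * s)⁻¹ ∈ T
      rw [show j * s * t * (j * s)⁻¹ = j * (s * t * s⁻¹) * j⁻¹ by group,
        ← hTcen _ (mul_mem (mul_mem hs ht) (inv_mem hs)) j hj, mul_inv_cancel_right]
      exact mul_mem (mul_mem hs ht) (inv_mem hs)
    have hTle : T ≤ Cfsg.pPrimeCore p Y := Cfsg.Lib.Components.le_pPrimeCore hTcard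
    have hbot : ((Cfsg.pPrimeCore p Y).map Y.subtype) = ⊥ := by
      haveI : (Cfsg.pPrimeCore p Y).Characteristic := characteristic_iff_map_le.2 fun e =>
        map_pPrimeCore_le e.toMonoidHom e.surjective
      haveI : ((Cfsg.pPrimeCore p Y).map Y.subtype).Normal := ConjAct.normal_of_characteristic_of_normal
      rw [eq_bot_iff, ← hO']
      exact Cfsg.Lib.Components.le_pPrimeCore (Nat.Coprime.coprime_dvd_left (card_map_dvd _ _)
        (Cfsg.Lib.Components.coprime_card_pPrimeCore p))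
    intro y hy
    obtain ⟨⟨⟨j, hj⟩, ⟨s, hs⟩⟩, e⟩ := hT.2 ⟨y, hy⟩
    have hs1 : (s : G) = 1 := mem_bot.1 (hbot ▸ mem_map_of_mem _ (hTle hs))
    have e' : (j : G) * (s : G) = y := congrArg Subtype.val e
    rw [hs1, mul_one] at e'
    exact e' ▸ hj
  -- the kernel
  obtain ⟨b, hb⟩ := relIndex_succ_odd (p := p) (G := G ⧸ J) (a := 1) (by decide)
  have hWC : W.comap π ⊓ C ≤ O := by
    refine Cfsg.Lib.Components.le_pCore ?_
    rintro ⟨g, hg⟩
    have h1 : (π g) ^ p ^ b ∈ (Cfsg.upperPSeries p (G ⧸ J) 1).1 := by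
      have h := Subgroup.pow_index_mem ((Cfsg.upperPSeries p (G ⧸ J) 1).1.subgroupOf W) ⟨π g, hg.1⟩
      rw [show ((Cfsg.upperPSeries p (G ⧸ J) 1).1.subgroupOf W).index = p ^ b from hb] at h
      exact h
    have h2 : g ^ p ^ b ∈ Y := ⟨by show π (g ^ p ^ b) ∈ (Cfsg.upperPSeries p (G ⧸ J) 1).1; rw [map_pow]; exact h1, pow_mem hg.2 _⟩
    obtain ⟨i, hi⟩ := hJp ⟨g ^ p ^ b, hYJ h2⟩
    refine ⟨b + i, Subtype.ext ?_⟩
    show g ^ p ^ (b + i) = 1
    rw [pow_add, pow_mul]
    exact congrArg Subtype.val hi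
  have hlenW : Cfsg.PLengthLE p m ((G ⧸ J) ⧸ W) :=
    pLengthLE_map_pred (QuotientGroup.mk' W) (QuotientGroup.mk'_surjective W) (by rw [QuotientGroup.ker_mk']) hq
  have hOW : O ≤ W.comap π := by
    intro g hg
    show π g ∈ W
    refine le_succ_of_pow (a := 1) (by decide) ?_ (mem_map_of_mem π hg)
    obtain ⟨i, hi⟩ := IsPGroup.iff_card.1 (hOp.map π)
    obtain ⟨c, -, hc⟩ := (Nat.dvd_prime_pow Fact.out).1
      (hi ▸ ((Cfsg.upperPSeries p (G ⧸ J) 1).1.subgroupOf (O.map π)).index_dvd_card :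
        (Cfsg.upperPSeries p (G ⧸ J) 1).1.relIndex (O.map π) ∣ p ^ i)
    exact ⟨c, hc⟩
  have hlenO : Cfsg.PLengthLE p m (G ⧸ O) := by
    refine pLengthLE_pair (QuotientGroup.lift O ((QuotientGroup.mk' W).comp π) (fun g hg =>
      (QuotientGroup.eq_one_iff _).2 (hOW hg))) (QuotientGroup.map O C (MonoidHom.id G) hOC) ?_ hlenW hClen
    rw [eq_bot_iff]
    intro x hx
    obtain ⟨g, rfl⟩ := QuotientGroup.mk_surjective x
    have h1 : (QuotientGroup.mk' W) (π g) = 1 := hx.1
    exact (QuotientGroup.eq_one_iff g).2 (hWC ⟨(QuotientGroup.eq_one_iff (π g)).1 h1, (QuotientGroup.eq_one_iff g).1 hx.2⟩)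
  have h1 : Cfsg.PLengthLE p 1 (QuotientGroup.mk' O).ker :=
    pLengthLE_one_of_isPGroup (by rw [QuotientGroup.ker_mk']; exact hOp)
  have h := pLengthLE_extend (QuotientGroup.mk' O) h1 hlenO
  rwa [add_comm] at h

end Cfsg.Lib.TwoLength
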