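import Cfsg.Agent.TwoLength.Agemo
import Cfsg.Agent.TwoLength.Drop
import Cfsg.Agent.SolvStruct.PGroupBasics
import Cfsg.Agent.OddLocal.FittingParts
import Cfsg.Agent.S0205
import Cfsg.Agent.SolvStruct.PLengthSeries

/-!
The elements that centralize every abelian normal subgroup of odd prime power order, and how the
characters of the normal groups of class two detect a `2`-element among them.
-/

set_option linter.style.haveILetI false
set_option linter.unusedSectionVars false

namespace Cfsg.Lib.TwoLength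

open Module Subgroup Cfsg.Lib.HallHigman
open scoped commutatorElement

universe u v w

variable {H : Type w} [Group H] [Finite H]

/-- The centralizer of all abelian normal subgroups of odd prime power order. -/
def normFix (H : Type w) [Group H] : Subgroup H where
  carrier := {h | ∀ (q : ℕ) (A : Subgroup H), q.Prime → q ≠ 2 → IsPGroup q A → A.Normal →
    (∀ a ∈ A, ∀ b ∈ A, a * b = b * a) → ∀ a ∈ A, Commute a h}
  one_mem' := fun _ _ _ _ _ _ _ a _ => Commute.one_right a
  mul_mem' := fun ha hb q A h1 h2 h3 h4 h5 a h6 =>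
    (ha q A h1 h2 h3 h4 h5 a h6).mul_right (hb q A h1 h2 h3 h4 h5 a h6)
  inv_mem' := fun ha q A h1 h2 h3 h4 h5 a h6 => (ha q A h1 h2 h3 h4 h5 a h6).inv_right

instance normFix_normal : (normFix H).Normal where
  conj_mem n hn g := by
    intro q A h1 h2 h3 h4 h5 a ha
    have h := hn q A h1 h2 h3 h4 h5 (g⁻¹ * a * g) (by simpa using h4.conj_mem a ha g⁻¹)
    show a * (g * n * g⁻¹) = g * n * g⁻¹ * a
    calc a * (g * n * g⁻¹) = g * ((g⁻¹ * a * g) * n) * g⁻¹ := by group
      _ = g * (n * (g⁻¹ * a * g)) * g⁻¹ := by rw [h.eq]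
      _ = g * n * g⁻¹ * a := by group

theorem fixGroup_le_normFix (S : Subgroup H) : fixGroup S ≤ normFix H := fun _ hs q A h1 h2 h3 h4 h5 a ha =>
  hs.2 q A h1 h2 h3 (by rw [normalizer_eq_top_iff.2 h4]; exact le_top) h5 a ha

variable {K : Type u} [Field K] [IsAlgClosed K] [CharP K 2] {V : Type v} [AddCommGroup V] [Module K V]
  [FiniteDimensional K V] [Nontrivial V] {q : ℕ} [Fact q.Prime] {Q : Subgroup H}

theorem cenIn_normal (Q : Subgroup H) [hQn : Q.Normal] : (cenIn Q).Normal where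
  conj_mem _ hn g := cen_conj (by rw [normalizer_eq_top_iff.2 hQn]; exact mem_top g) hn

theorem normFix_commute (hq2 : q ≠ 2) [Q.Normal] (hQ : IsPGroup q Q) {h : H} (hh : h ∈ normFix H) {z : H}
    (hz : z ∈ cenIn Q) : Commute z h :=
  hh q (cenIn Q) Fact.out hq2 (hQ.to_le inf_le_left) (cenIn_normal Q) (fun _ ha _ hb => cen_comm hb ha.1) z hz

theorem normFix_le_stab (hq2 : q ≠ 2) [hQn : Q.Normal] (hQ : IsPGroup q Q) [Fact (ClassTwo Q)]
    (χ : cenIn Q →* Kˣ) {h : H} (hh : h ∈ normFix H) : h ∈ stabChar χ := by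
  refine ⟨by rw [normalizer_eq_top_iff.2 hQn]; exact mem_top h, fun z => congrArg χ (Subtype.ext ?_)⟩
  show h * (z : H) * h⁻¹ = z
  rw [← (normFix_commute hq2 hQ hh z.2).eq, mul_inv_cancel_right]

theorem commute_of_trivial_action [Fact (ClassTwo Q)] [Q.Normal] (hq2 : q ≠ 2) (hQ : IsPGroup q Q)
    (ρ : H →* Module.End K V) (hρ : Function.Injective ρ) {d : H} (hd : d ∈ normFix H) {i : ℕ}
    (hdi : d ^ 2 ^ i = 1)
    (htriv : ∀ (χ : cenIn Q →* Kˣ) (v : V), v ≠ 0 → v ∈ charSpace ρ χ → ∀ hm : d ∈ stabChar χ,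
      actQuot χ ⟨d, hm⟩ = 1) {u : H} (hu : u ∈ Q) : Commute d u := by
  set z := d * u * d⁻¹ * u⁻¹ with hz
  have hzQ : z ∈ Q := mul_mem ((inferInstance : Q.Normal).conj_mem u hu d) (inv_mem hu)
  have hzc : z ∈ cenIn Q := by
    refine ⟨hzQ, mem_centralizer_iff.2 fun w hw => ?_⟩
    have hcomm : ⁅z, w⁆ = 1 := by
      set Z := cenIn Q
      have hZcomm : ∀ a b : Z, a * b = b * a := fun a b => Subtype.ext (cen_comm b.2 a.2.1)
      have hZK : ((Nat.card Z : ℕ) : K) ≠ 0 := by
        obtain ⟨m, hm⟩ := IsPGroup.iff_card.1 (hQ.to_le (inf_le_left : Z ≤ Q))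
        rw [hm, Nat.cast_pow]
        exact pow_ne_zero _ fun h => hq2
          ((Nat.prime_dvd_prime_iff_eq Nat.prime_two (Fact.out : q.Prime)).1 ((CharP.cast_eq_zero_iff K 2 q).1 h)).symm
      refine hρ (LinearMap.ext_on (common_eigen_span hZcomm hZK (ρ.comp Z.subtype)) fun v hv => ?_)
      rw [map_one, Module.End.one_apply]
      by_cases hv0 : v = 0
      · rw [hv0, map_zero]
      choose f hf using hv
      have hmul : ∀ a b : Z, f (a * b) = f a * f b := fun a b => smul_left_injective K hv0 (by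
        show f (a * b) • v = (f a * f b) • v
        rw [← hf, map_mul, Module.End.mul_apply, hf, map_smul, hf, smul_smul, mul_comm])
      have hone : f 1 = 1 := smul_left_injective K hv0 (by
        show f 1 • v = (1 : K) • v
        rw [← hf, map_one, Module.End.one_apply, one_smul])
      let χ : Z →* Kˣ := MonoidHom.toHomUnits ⟨⟨f, hone⟩, hmul⟩
      have hvχ : v ∈ charSpace ρ χ := mem_charSpace.2 fun a => hf a
      have h1 := (actQuot_eq_one_iff χ _).1 (htriv χ v hv0 hvχ (normFix_le_stab hq2 hQ χ hd)) ⟨u, hu⟩ ⟨w, hw⟩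
      have h2 := congrArg Units.val h1
      change f ⟨⁅z, w⁆, _⟩ = 1 at h2
      have h3 := hf ⟨⁅z, w⁆, (Fact.out : ClassTwo Q) z hzQ w hw⟩
      rw [h2, one_smul] at h3
      exact h3
    exact (commutatorElement_eq_one_iff_mul_comm.1 hcomm).symm
  refine commute_of_fixed_commutator hdi (normFix_commute hq2 hQ hd hzc) ?_
  obtain ⟨j, hj⟩ := IsPGroup.iff_orderOf.1 hQ ⟨z, hzQ⟩
  rw [Subgroup.orderOf_mk] at hj
  rw [hj]
  exact Nat.Coprime.pow j i ((Nat.coprime_primes (Fact.out : q.Prime) Nat.prime_two).2 hq2)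

/-- A `2`-element of `normFix` acting trivially at every character of every normal group of class two is
trivial. -/
theorem eq_one_of_trivial_action (hsol : Cfsg.IsPSolvable 2 H) (hO : Cfsg.pCore 2 H = ⊥)
    (ρ : H →* Module.End K V) (hρ : Function.Injective ρ) {d : H} (hd : d ∈ normFix H) {i : ℕ}
    (hdi : d ^ 2 ^ i = 1)
    (htriv : ∀ (q : ℕ) [Fact q.Prime] (Q : Subgroup H) [Fact (ClassTwo Q)], q ≠ 2 → IsPGroup q Q → Q.Normal →
      ∀ (χ : cenIn Q →* Kˣ) (v : V), v ≠ 0 → v ∈ charSpace ρ χ → ∀ hm : d ∈ stabChar χ,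
        actQuot χ ⟨d, hm⟩ = 1) : d = 1 := by
  classical
  haveI : Fact (Nat.Prime 2) := ⟨Nat.prime_two⟩
  set R := Cfsg.pPrimeCore 2 H with hR
  haveI : R.Normal := Cfsg.Lib.Components.pPrimeCore_normal' 2
  have hRcop := Cfsg.Lib.Components.coprime_card_pPrimeCore (G := H) 2
  haveI : Group.IsSolvable R := Cfsg.Agent.S0205.result (Nat.coprime_two_right.1 hRcop)
  have hfit : ∀ f ∈ Cfsg.fittingSubgroup R, Commute d (f : H) := by
    suffices h : Cfsg.fittingSubgroup R ≤ (centralizer ({d} : Set H)).comap R.subtype from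
      fun f hf => (mem_centralizer_singleton_iff.1 (h hf)).symm
    rw [Cfsg.Lib.Components.fitting_eq_iSup_pCore]
    refine iSup_le fun r => ?_
    haveI := Fact.mk r.2
    by_cases hr2 : (r : ℕ) = 2
    · have hb : Cfsg.pCore (r : ℕ) R = ⊥ := by
        refine Cfsg.Lib.Components.pCore_eq_bot_of_not_dvd fun hh => ?_
        rw [hr2] at hh
        exact absurd (Nat.eq_one_of_dvd_coprimes hRcop hh dvd_rfl) (by norm_num)
      rw [hb]
      exact bot_le
    set P := (Cfsg.pCore (r : ℕ) R).map R.subtype with hP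
    have hPp : IsPGroup r P := (Cfsg.Lib.Components.isPGroup_pCore _).map _
    haveI : (Cfsg.pCore (r : ℕ) R).Characteristic := characteristic_iff_map_le.2 fun e =>
      Cfsg.Lib.PLengthSeries.map_pCore_le e.toMonoidHom e.surjective
    haveI : P.Normal := ConjAct.normal_of_characteristic_of_normal
    intro f hf
    show (f : H) ∈ centralizer ({d} : Set H)
    refine mem_centralizer_singleton_iff.2 (Commute.symm ?_).eq
    have hfP : (f : H) ∈ P := mem_map_of_mem _ hf
    obtain ⟨Hc, hHchar, -, hHcomm, hHcen⟩ := Cfsg.Lib.SolvStruct.exists_critical hPp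
    haveI := hHchar
    haveI : (Hc.map P.subtype).Normal := ConjAct.normal_of_characteristic_of_normal
    haveI : Fact (ClassTwo (Hc.map P.subtype)) := ⟨by
      rintro _ ⟨a, ha, rfl⟩ _ ⟨b, hb, rfl⟩
      obtain ⟨h1, h2⟩ := hHcomm (commutator_mem_commutator ha (mem_top b))
      refine ⟨⟨⁅a, b⁆, h1, map_commutatorElement P.subtype a b⟩, mem_centralizer_iff.2 ?_⟩
      rintro _ ⟨c, hc, rfl⟩
      rw [← map_commutatorElement, ← map_mul, ← map_mul, mem_centralizer_iff.1 h2 c hc]⟩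
    have hQp : IsPGroup r (Hc.map P.subtype) := hPp.to_le (map_subtype_le _)
    have hcQ : ∀ u ∈ Hc.map P.subtype, Commute d u := fun u hu =>
      commute_of_trivial_action hr2 hQp ρ hρ hd hdi
        (fun χ v h1 h2 hm => htriv r (Hc.map P.subtype) hr2 hQp inferInstance χ v h1 h2 hm) hu
    set u := (f : H)
    set z := d * u * d⁻¹ * u⁻¹ with hz
    have hzP : z ∈ P := mul_mem ((inferInstance : P.Normal).conj_mem u hfP d) (inv_mem hfP)
    have hzQ : z ∈ Hc.map P.subtype := by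
      refine ⟨⟨z, hzP⟩, hHcen (mem_centralizer_iff.2 fun h hh => Subtype.ext ?_), rfl⟩
      show (h : H) * z = z * (h : H)
      have h1 : (u⁻¹ * (h : H) * u) ∈ Hc.map P.subtype := by
        simpa using (inferInstance : (Hc.map P.subtype).Normal).conj_mem (h : H) ⟨h, hh, rfl⟩ u⁻¹
      have hconj : ∀ w, Commute d w → d * w * d⁻¹ = w := fun w hw => by rw [hw.eq, mul_inv_cancel_right]
      have h2 : (d * u * d⁻¹)⁻¹ * (h : H) * (d * u * d⁻¹) = u⁻¹ * (h : H) * u := by
        conv_lhs => rw [← hconj (h : H) (hcQ _ ⟨h, hh, rfl⟩)]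
        calc (d * u * d⁻¹)⁻¹ * (d * (h : H) * d⁻¹) * (d * u * d⁻¹) = d * (u⁻¹ * (h : H) * u) * d⁻¹ := by group
          _ = _ := hconj _ (hcQ _ h1)
      rw [hz]
      calc (h : H) * (d * u * d⁻¹ * u⁻¹) = (d * u * d⁻¹) * ((d * u * d⁻¹)⁻¹ * (h : H) * (d * u * d⁻¹)) * u⁻¹ := by group
        _ = (d * u * d⁻¹) * (u⁻¹ * (h : H) * u) * u⁻¹ := by rw [h2]
        _ = _ := by group
    refine commute_of_fixed_commutator hdi (hcQ z hzQ).symm ?_
    obtain ⟨j, hj⟩ := IsPGroup.iff_orderOf.1 hPp ⟨z, hzP⟩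
    rw [Subgroup.orderOf_mk] at hj
    rw [hj]
    exact Nat.Coprime.pow j i ((Nat.coprime_primes r.2 Nat.prime_two).2 hr2)
  haveI : ((Cfsg.fittingSubgroup R).map R.subtype).Normal := ConjAct.normal_of_characteristic_of_normal
  have hdR : d ∈ centralizer (R : Set H) := by
    refine mem_centralizer_iff.2 fun u hu => ?_
    set z := d * u * d⁻¹ * u⁻¹ with hz
    have hzR : z ∈ R := mul_mem ((inferInstance : R.Normal).conj_mem u hu d) (inv_mem hu)
    have hzF : (⟨z, hzR⟩ : R) ∈ Cfsg.fittingSubgroup R := by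
      refine Cfsg.Lib.Coprime.centralizer_fitting_le (mem_centralizer_iff.2 fun f hf => Subtype.ext ?_)
      show (f : H) * z = z * (f : H)
      have hconj : ∀ w, Commute d w → d * w * d⁻¹ = w := fun w hw => by rw [hw.eq, mul_inv_cancel_right]
      obtain ⟨g, hg, hge⟩ := (inferInstance : ((Cfsg.fittingSubgroup R).map R.subtype).Normal).conj_mem (f : H)
        ⟨f, hf, rfl⟩ u⁻¹
      have h1 : u⁻¹ * (f : H) * u = (g : H) := by simpa using hge.symm
      have h2 : (d * u * d⁻¹)⁻¹ * (f : H) * (d * u * d⁻¹) = u⁻¹ * (f : H) * u := by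
        conv_lhs => rw [← hconj (f : H) (hfit f hf)]
        calc (d * u * d⁻¹)⁻¹ * (d * (f : H) * d⁻¹) * (d * u * d⁻¹) = d * (u⁻¹ * (f : H) * u) * d⁻¹ := by group
          _ = _ := by rw [h1]; exact hconj _ (hfit g hg)
      rw [hz]
      calc (f : H) * (d * u * d⁻¹ * u⁻¹) = (d * u * d⁻¹) * ((d * u * d⁻¹)⁻¹ * (f : H) * (d * u * d⁻¹)) * u⁻¹ := by group
        _ = (d * u * d⁻¹) * (u⁻¹ * (f : H) * u) * u⁻¹ := by rw [h2]
        _ = _ := by group
    have hc : Commute z d := (hfit _ hzF).symm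
    refine (commute_of_fixed_commutator hdi hc ?_).symm.eq
    refine Nat.Coprime.coprime_dvd_left ?_ (hRcop.pow_right i)
    have h := orderOf_dvd_natCard (⟨z, hzR⟩ : R)
    rwa [Subgroup.orderOf_mk] at h
  refine orderOf_eq_one_iff.1 (Nat.eq_one_of_dvd_coprimes (hRcop.pow_right i) ?_ (orderOf_dvd_of_pow_eq_one hdi))
  have hdR' := Cfsg.Agent.S4748.centralizer_pPrimeCore_le 2 hsol hO hdR
  rw [show d = ((⟨d, hdR'⟩ : R) : H) from rfl, Subgroup.orderOf_coe]
  exact orderOf_dvd_natCard _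

end Cfsg.Lib.TwoLength
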