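import Cfsg.Agent.TwoLength.Bryukhanova.Relation
import Cfsg.Agent.TwoLength.Bryukhanova.Combine
import Cfsg.Agent.SolvStruct.CoprimeOrbits
import Cfsg.Agent.Chars.IsaacsItoPrimePower
import Cfsg.Agent.PLocal.Constrained

/-!
The chief layers inside the marked part of the largest normal `2`-subgroup: the group induced on such a
layer has small degree.
-/

set_option linter.style.haveILetI false
set_option linter.unusedSectionVars false

namespace Cfsg.Lib.TwoLength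

open Module Subgroup Cfsg.Lib.HallHigman
open scoped commutatorElement

universe u v w

/-- A faithful group over two elements whose `2`-elements have small degree has small length. -/
def LowLength (m : ℕ) : Prop :=
  ∀ (Γ : Type u) [Group Γ] [Finite Γ] (W : Type u) [AddCommGroup W] [Module (ZMod 2) W] [Finite W]
    (σ : Γ →* Module.End (ZMod 2) W), Cfsg.IsPSolvable 2 Γ → Cfsg.pCore 2 Γ = ⊥ → Function.Injective σ →
    (∀ (P : Sylow 2 Γ), ∀ x ∈ (P : Subgroup Γ), x ^ 2 ^ (m + 1) = 1) →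
    (∀ (P : Sylow 2 Γ), ∀ x ∈ (P : Subgroup Γ), (σ x - 1) ^ (2 ^ (m + 1) - 1) = 0) →
    Cfsg.PLengthLE 2 m Γ

section

variable {H : Type u} [Group H]

theorem section_map {L E F : Subgroup H} (hE : L ≤ normalizer (E : Set H)) (hF : L ≤ normalizer (F : Set H))
    (g : L) : (F.subgroupOf E).map (E.normalizerMonoidHom ⟨g, hE g.2⟩ : E →* E) = F.subgroupOf E := by
  ext ⟨a, ha⟩
  constructor
  · rintro ⟨⟨b, hb⟩, hbF, e⟩
    have e' : (g : H) * b * (g : H)⁻¹ = a := congrArg Subtype.val e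
    exact e' ▸ (mem_normalizer_iff.1 (hF g.2) b).1 hbF
  · intro haF
    refine ⟨⟨(g : H)⁻¹ * a * g, (mem_normalizer_iff''.1 (hE g.2) a).1 ha⟩,
      (mem_normalizer_iff''.1 (hF g.2) a).1 haF, Subtype.ext ?_⟩
    show (g : H) * ((g : H)⁻¹ * a * g) * (g : H)⁻¹ = a
    group

/-- The action on a section. -/
def sectionAct (L E F : Subgroup H) (hE : L ≤ normalizer (E : Set H)) (hF : L ≤ normalizer (F : Set H))
    [(F.subgroupOf E).Normal] : L →* MulAut (E ⧸ F.subgroupOf E) where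
  toFun g := QuotientGroup.congr _ _ (E.normalizerMonoidHom ⟨g, hE g.2⟩) (section_map hE hF g)
  map_one' := MulEquiv.ext fun c => by
    obtain ⟨a, rfl⟩ := QuotientGroup.mk_surjective c
    rw [QuotientGroup.congr_mk, MulAut.one_apply]
    congr 1
    exact Subtype.ext (by show (1 : H) * a * (1 : H)⁻¹ = a; group)
  map_mul' g h := MulEquiv.ext fun c => by
    obtain ⟨a, rfl⟩ := QuotientGroup.mk_surjective c
    rw [MulAut.mul_apply, QuotientGroup.congr_mk, QuotientGroup.congr_mk, QuotientGroup.congr_mk]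
    congr 1
    exact Subtype.ext (by
      show ((g : H) * h) * a * ((g : H) * h)⁻¹ = g * (h * a * (h : H)⁻¹) * (g : H)⁻¹
      group)

theorem sectionAct_mk (L E F : Subgroup H) (hE : L ≤ normalizer (E : Set H)) (hF : L ≤ normalizer (F : Set H))
    [(F.subgroupOf E).Normal] (g : L) (a : E) :
    sectionAct L E F hE hF g (QuotientGroup.mk a) =
      QuotientGroup.mk (E.normalizerMonoidHom ⟨g, hE g.2⟩ a) :=
  QuotientGroup.congr_mk (F.subgroupOf E) (F.subgroupOf E) (E.normalizerMonoidHom ⟨g, hE g.2⟩) (section_map hE hF g) _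

theorem sectionAct_eq_one {L E F : Subgroup H} {hE : L ≤ normalizer (E : Set H)}
    {hF : L ≤ normalizer (F : Set H)} [hn : (F.subgroupOf E).Normal] {g : L}
    (h : sectionAct L E F hE hF g = 1) {a : H} (ha : a ∈ E) : (g : H) * a * (g : H)⁻¹ * a⁻¹ ∈ F := by
  have h1 := DFunLike.congr_fun h (QuotientGroup.mk (⟨a, ha⟩ : E))
  rw [sectionAct_mk, MulAut.one_apply, ← div_eq_one, div_eq_mul_inv, ← QuotientGroup.mk_inv, ← QuotientGroup.mk_mul,
    QuotientGroup.eq_one_iff] at h1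
  exact h1

theorem sectionAct_eq_one_of_commute {L E F : Subgroup H} {hE : L ≤ normalizer (E : Set H)}
    {hF : L ≤ normalizer (F : Set H)} [hn : (F.subgroupOf E).Normal] {g : L}
    (h : ∀ a ∈ E, Commute (g : H) a) : sectionAct L E F hE hF g = 1 := by
  refine MulEquiv.ext fun c => ?_
  obtain ⟨a, rfl⟩ := QuotientGroup.mk_surjective c
  rw [sectionAct_mk, MulAut.one_apply]
  congr 1
  exact Subtype.ext (show (g : H) * a * (g : H)⁻¹ = a by rw [(h a a.2).eq, mul_inv_cancel_right])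

end

theorem exponent_four {H : Type u} [Group H] {E C : Subgroup H} (hCE : C ≤ normalizer (E : Set H))
    (hfull : ⁅E, C⁆ = E) {Φ : Subgroup H} (hΦE : Φ ≤ E) (hsq : ∀ u ∈ E, u ^ 2 ∈ Φ)
    (hcom : ∀ u ∈ E, ∀ v ∈ E, ⁅u, v⁆ ∈ Φ) (hfix : ∀ s ∈ Φ, ∀ a ∈ C, a * s * a⁻¹ = s) :
    ∀ u ∈ E, u ^ 4 = 1 := by
  have hΦQ : C ≤ centralizer (Φ : Set H) := fun a ha => mem_centralizer_iff.2 fun s hs =>
    (mul_inv_eq_iff_eq_mul.1 (hfix s hs a ha)).symm
  have hΦcen : ∀ a ∈ Φ, ∀ b ∈ E, a * b = b * a := by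
    have h1 : ⁅(⁅C, Φ⁆ : Subgroup H), E⁆ = ⊥ := by
      rw [commutator_eq_bot_iff_le_centralizer.2 hΦQ, commutator_bot_left]
    have h2 : ⁅(⁅Φ, E⁆ : Subgroup H), C⁆ = ⊥ := by
      rw [commutator_eq_bot_iff_le_centralizer]
      have hle : ⁅Φ, E⁆ ≤ Φ := by
        rw [commutator_le]
        intro a ha b hb
        exact hcom a (hΦE ha) b hb
      exact hle.trans (le_centralizer_iff.1 hΦQ)
    have h3 : ⁅(⁅E, C⁆ : Subgroup H), Φ⁆ = ⊥ := commutator_commutator_eq_bot_of_rotate h1 h2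
    rw [hfull, commutator_eq_bot_iff_le_centralizer] at h3
    exact fun a ha b hb => mem_centralizer_iff.1 (h3 hb) a ha
  have hmulsq : ∀ u v : H, (u * v) ^ 2 = u ^ 2 * ⁅u⁻¹, v⁆ * v ^ 2 := fun u v => by
    rw [pow_two, pow_two, pow_two, commutatorElement_def]; group
  have hcomsq : ∀ u ∈ E, ∀ v ∈ E, ⁅u, v⁆ ^ 2 = 1 := by
    intro u hu v hv
    have h1 : ⁅u * u, v⁆ = 1 := commutatorElement_eq_one_iff_mul_comm.2 (by
      rw [← pow_two]; exact hΦcen _ (hsq u hu) v hv)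
    rw [show ⁅u * u, v⁆ = (u * ⁅u, v⁆ * u⁻¹) * ⁅u, v⁆ by simp only [commutatorElement_def]; group,
      ← hΦcen _ (hcom u hu v hv) u hu, mul_inv_cancel_right, ← pow_two] at h1
    exact h1
  let S₄ : Subgroup H :=
    { carrier := {u | u ∈ E ∧ u ^ 4 = 1}
      one_mem' := ⟨one_mem E, by simp⟩
      mul_mem' := fun {a b} ha hb => ⟨mul_mem ha.1 hb.1, by
        have hc := hcom _ (inv_mem ha.1) _ hb.1
        have h1 : Commute (a ^ 2 * ⁅a⁻¹, b⁆) (b ^ 2) :=
          hΦcen _ (mul_mem (hsq a ha.1) hc) _ (hΦE (hsq b hb.1))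
        have h2 : Commute (a ^ 2) ⁅a⁻¹, b⁆ := hΦcen _ (hsq a ha.1) _ (hΦE hc)
        rw [show 4 = 2 * 2 from rfl, pow_mul, hmulsq, h1.mul_pow, h2.mul_pow, ← pow_mul, ← pow_mul,
          hcomsq _ (inv_mem ha.1) _ hb.1, ha.2, hb.2, one_mul, one_mul]⟩
      inv_mem' := fun {a} ha => ⟨inv_mem ha.1, by rw [inv_pow, ha.2, inv_one]⟩ }
  intro u hu
  have hle : ⁅E, C⁆ ≤ S₄ := commutator_le.2 fun v hv a ha => by
    have hw : a * v⁻¹ * a⁻¹ ∈ E := (mem_normalizer_iff.1 (hCE ha) _).1 (inv_mem hv)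
    rw [commutatorElement_def, show v * a * v⁻¹ * a⁻¹ = v * (a * v⁻¹ * a⁻¹) by group]
    refine ⟨mul_mem hv hw, ?_⟩
    rw [show 4 = 2 * 2 from rfl, pow_mul, hmulsq, conj_pow, hfix _ (hsq _ (inv_mem hv)) a ha,
      hΦcen _ (hsq v hv) _ (hΦE (hcom _ (inv_mem hv) _ hw)), mul_assoc, inv_pow, mul_inv_cancel, mul_one,
      hcomsq _ (inv_mem hv) _ hw]
  exact (hle (hfull.ge hu)).2

variable {H : Type u} [Group H] [Finite H] {K : Type v} [Field K] [IsAlgClosed K] [CharP K 2] {V : Type w}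
  [AddCommGroup V] [Module K V] [FiniteDimensional K V] [Nontrivial V]

/-- The layers inside the marked part. -/
theorem exists_layer_quotient (hsol : Cfsg.IsPSolvable 2 H) (hO : Cfsg.pCore 2 H = ⊥)
    (ρ : H →* Module.End K V) (hρ : Function.Injective ρ) (k : ℕ)
    (hexp : ∀ (P : Sylow 2 H), ∀ x ∈ (P : Subgroup H), x ^ 2 ^ (k + 2) = 1)
    (hdeg : ∀ (P : Sylow 2 H), ∀ x ∈ (P : Subgroup H), (ρ x - 1) ^ (2 ^ (k + 2) - 1) = 0)
    (hlow : LowLength.{u} k) {Hb : Type u} [Group Hb] [Finite Hb] (π : H →* Hb) (hπ : Function.Surjective π)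
    (hker : (Nat.card π.ker).Coprime 2)
    (hpow : ∀ (P : Sylow 2 H), ∀ x ∈ (P : Subgroup H), π (x ^ 2 ^ (k + 1)) ∈ Cfsg.pCore 2 Hb)
    (C : Subgroup Hb) (hC : C.Normal) (hJC : (normFix H).map π ⊓ Cfsg.pCore 2 Hb ≤ C)
    (hmove : ∃ r ∈ C, (orderOf r).Coprime 2 ∧ ∃ j ∈ (normFix H).map π ⊓ Cfsg.pCore 2 Hb, r * j ≠ j * r) :
    ∃ (N : Subgroup Hb) (_ : N.Normal), Cfsg.pCore 2 Hb ≤ N ∧ ¬ C ≤ N ∧ Cfsg.PLengthLE 2 k (Hb ⧸ N) := by
  classical
  haveI : Fact (Nat.Prime 2) := ⟨Nat.prime_two⟩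
  haveI := hC
  set O := Cfsg.pCore 2 Hb with hOdef
  have hOp : IsPGroup 2 O := Cfsg.Lib.Components.isPGroup_pCore 2
  haveI : O.Normal := Cfsg.Lib.Components.pCore_normal' 2
  obtain ⟨S⟩ : Nonempty (Sylow 2 H) := inferInstance
  set M := O.comap π with hM
  obtain ⟨PM, hPM⟩ := Cfsg.Lib.Chars.sylow_inf_normal S M
  set OS := (S : Subgroup H) ⊓ M with hOS
  have hPMmap : (PM : Subgroup M).map M.subtype = OS := by rw [hPM, subgroupOf_map_subtype]
  have hOSp : IsPGroup 2 OS := S.2.to_le inf_le_left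
  have hOsurj : ∀ o ∈ O, ∃ s ∈ OS, π s = o := by
    intro o ho
    obtain ⟨s, hs, rfl⟩ := Cfsg.Lib.Coprime.pCore_le_sylow 2 (S.mapSurjective hπ) ho
    exact ⟨s, ⟨hs, ho⟩, rfl⟩
  set L := normalizer (OS : Set H) with hL
  have hπL : ∀ b : Hb, ∃ l ∈ L, π l = b := by
    intro b
    obtain ⟨h, rfl⟩ := hπ b
    have hmem : h ∈ normalizer (OS : Set H) ⊔ M := by
      rw [← hPMmap, Sylow.normalizer_sup_eq_top PM]; exact mem_top h
    obtain ⟨l, hl, m, hm, rfl⟩ := mem_sup_of_normal_right.1 hmem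
    obtain ⟨s, hs, e⟩ := hOsurj (π m) hm
    exact ⟨l * s, mul_mem hl (le_normalizer hs), by rw [map_mul, map_mul, e]⟩
  -- the marked subgroup
  set JS := OS ⊓ normFix H with hJS
  have hJS' : ∀ j ∈ (normFix H).map π ⊓ O, ∃ s ∈ JS, π s = j := by
    intro j hj
    set D := normFix H ⊓ M with hD
    set J := D.map π with hJ
    have hJp : IsPGroup 2 J := hOp.to_le ((Subgroup.map_mono inf_le_right).trans (map_comap_le π O))
    obtain ⟨PD, hPD⟩ := Cfsg.Lib.Chars.sylow_inf_normal S D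
    let f : D →* J := (π.comp D.subtype).codRestrict J fun d => mem_map_of_mem π d.2
    have hf : Function.Surjective f := by
      rintro ⟨_, d, hd, rfl⟩
      exact ⟨⟨d, hd⟩, rfl⟩
    have htop : (PD : Subgroup D).map f = ⊤ :=
      (PD.mapSurjective hf).is_maximal' (hJp.of_equiv Subgroup.topEquiv.symm) le_top |>.symm
    obtain ⟨c, hc, hcj⟩ := hj.1
    have hcM : c ∈ M := by
      show π c ∈ O
      rw [hcj]; exact hj.2
    obtain ⟨d, hd, e⟩ := htop.ge (mem_top (⟨j, c, ⟨hc, hcM⟩, hcj⟩ : J))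
    rw [hPD] at hd
    exact ⟨d, ⟨⟨hd, d.2.2⟩, d.2.1⟩, congrArg Subtype.val e⟩
  have hLJS : L ≤ normalizer (JS : Set H) := fun g hg => mem_normalizer_of_conj_le fun z hz =>
    ⟨(mem_normalizer_iff.1 hg z).1 hz.1, normFix_normal.conj_mem z hz.2 g⟩
  -- the moving elements
  set C₂ := Subgroup.closure {a : H | (a ∈ L ∧ π a ∈ C) ∧ (orderOf a).Coprime 2} with hC₂
  have hC₂L : C₂ ≤ L := (closure_le L).2 fun a ha => ha.1.1
  have hLC₂ : L ≤ normalizer (C₂ : Set H) := fun g hg => mem_normalizer_of_conj_le fun z hz => by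
    have h : C₂ ≤ C₂.comap (MulAut.conj g).toMonoidHom := (closure_le _).2 fun a ha => by
      refine subset_closure ⟨⟨mul_mem (mul_mem hg ha.1.1) (inv_mem hg), ?_⟩, ?_⟩
      · show π (g * a * g⁻¹) ∈ C
        rw [map_mul, map_mul, map_inv]
        exact hC.conj_mem _ ha.1.2 _
      · rw [show orderOf ((MulAut.conj g).toMonoidHom a) = orderOf a from (MulAut.conj g).orderOf_eq a]
        exact ha.2
    exact h hz
  have hmoveJS : ¬ C₂ ≤ centralizer (JS : Set H) := by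
    intro hle
    obtain ⟨r, hr, hro, j, hj, hne⟩ := hmove
    obtain ⟨l, hl, rfl⟩ := hπL r
    obtain ⟨s, hs, rfl⟩ := hJS' j hj
    obtain ⟨a, o, ho, hlo⟩ := Nat.exists_eq_two_pow_mul_odd (orderOf_pos l).ne'
    obtain ⟨m, hm⟩ := exists_pow_eq_self_of_coprime (x := π l) (n := 2 ^ a) (hro.symm.pow_left a)
    have hl' : l ^ (2 ^ a * m) ∈ C₂ := by
      refine subset_closure ⟨⟨pow_mem hl _, ?_⟩, ?_⟩
      · rw [map_pow]; exact pow_mem hr _
      · refine Nat.Coprime.coprime_dvd_left (orderOf_dvd_of_pow_eq_one ?_) ho.coprime_two_right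
        rw [← pow_mul, show 2 ^ a * m * o = 2 ^ a * o * m by ring, ← hlo, pow_mul, pow_orderOf_eq_one, one_pow]
    refine hne ?_
    have h := congrArg π (mem_centralizer_iff.1 (hle hl') s hs)
    rw [map_mul, map_mul, map_pow, pow_mul, hm] at h
    exact h.symm
  -- the minimal moved subgroup
  obtain ⟨E, ⟨hEJS, hLE, hEm⟩, hEmin⟩ := WellFounded.has_min (wellFounded_lt (α := Subgroup H))
    {E | E ≤ JS ∧ L ≤ normalizer (E : Set H) ∧ ¬ C₂ ≤ centralizer (E : Set H)} ⟨JS, le_rfl, hLJS, hmoveJS⟩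
  have hEOS : E ≤ OS := hEJS.trans inf_le_left
  have hEN : E ≤ normFix H := hEJS.trans inf_le_right
  have hEp : IsPGroup 2 E := hOSp.to_le hEOS
  have hE1 : E ≠ ⊥ := by
    rintro rfl
    exact hEm fun a _ => mem_centralizer_iff.2 fun z hz => by
      rw [SetLike.mem_coe, mem_bot] at hz; rw [hz, one_mul, mul_one]
  have hfixM : ∀ R : Subgroup H, R ≤ E → R ≠ E → L ≤ normalizer (R : Set H) → C₂ ≤ centralizer (R : Set H) := by
    intro R h1 h2 h3
    by_contra h4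
    exact hEmin R ⟨h1.trans hEJS, h3, h4⟩ (lt_of_le_of_ne h1 h2)
  have hCE : C₂ ≤ normalizer (E : Set H) := hC₂L.trans hLE
  have hfull : ⁅E, C₂⁆ = E := by
    have hle : ⁅E, C₂⁆ ≤ E := commutator_le.2 fun u hu a ha => by
      rw [commutatorElement_def, show u * a * u⁻¹ * a⁻¹ = u * (a * u⁻¹ * a⁻¹) by group]
      exact mul_mem hu ((mem_normalizer_iff.1 (hCE ha) _).1 (inv_mem hu))
    by_contra hne
    have hc := hfixM _ hle hne (le_normalizer_commutator hLE hLC₂)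
    refine hEm ((closure_le _).2 fun a ha => mem_centralizer_iff.2 fun u hu => ?_)
    have haC : a ∈ C₂ := subset_closure ha
    have hz : a * u * a⁻¹ * u⁻¹ ∈ ⁅E, C₂⁆ := by
      have h := inv_mem (commutator_mem_commutator hu haC)
      rw [commutatorElement_def] at h
      rwa [show (u * a * u⁻¹ * a⁻¹)⁻¹ = a * u * a⁻¹ * u⁻¹ by group] at h
    refine (commute_of_fixed_commutator (pow_orderOf_eq_one a) ?_ ?_).symm.eq
    · exact mem_centralizer_iff.1 (hc haC) _ hz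
    · obtain ⟨i, hi⟩ := hEp ⟨_, hle hz⟩
      exact Nat.Coprime.coprime_dvd_left (orderOf_dvd_of_pow_eq_one (congrArg Subtype.val hi))
        (ha.2.symm.pow_left i)
  set Φ := (frattini E).map E.subtype with hΦ
  have hΦE : Φ ≤ E := map_subtype_le _
  have hLΦ : L ≤ normalizer (Φ : Set H) := le_normalizer_map_frattini hLE
  set K₀ := agreeSub ρ E Φ hEN hΦE with hK₀
  obtain ⟨R, ⟨hK₀R, hRE, hRne, hLR⟩, hRmax⟩ := WellFounded.has_min
    (IsWellFounded.wf (r := ((· > ·) : Subgroup H → Subgroup H → Prop)))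
    {R | K₀ ≤ R ∧ R ≤ E ∧ R ≠ E ∧ L ≤ normalizer (R : Set H)}
    ⟨K₀, le_rfl, agreeSub_le ρ hEN hΦE, agreeSub_ne ρ hsol hO hρ hEN hEp hE1,
      fun g hg => agreeSub_conj ρ hEN hΦE (hLE hg) (hLΦ hg)⟩
  have hΦR : Φ ≤ R := (le_agreeSub ρ hEN hΦE).trans hK₀R
  have hCR : C₂ ≤ centralizer (R : Set H) := hfixM R hRE hRne hLR
  have hE4 : ∀ u ∈ E, u ^ 4 = 1 := exponent_four hCE hfull hΦE
    (fun u hu => ⟨(⟨u, hu⟩ : E) ^ 2, Cfsg.Lib.PGroups.pow_mem_frattini hEp _, rfl⟩)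
    (fun u hu v hv => ⟨⁅(⟨u, hu⟩ : E), ⟨v, hv⟩⁆,
      Cfsg.Lib.PGroups.commutator_le_frattini hEp (commutator_mem_commutator (mem_top _) (mem_top _)),
      map_commutatorElement E.subtype _ _⟩)
    (fun s hs a ha => by rw [← mem_centralizer_iff.1 (hCR ha) s (hΦR hs), mul_inv_cancel_right])
  have hOSL : OS ≤ L := le_normalizer
  haveI hRn : (R.subgroupOf E).Normal :=
    normal_subgroupOf_of_le_normalizer ((hEOS.trans hOSL).trans hLR)
  have hfr : frattini E ≤ R.subgroupOf E := fun z hz => hΦR (mem_map_of_mem _ hz)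
  letI : CommGroup (E ⧸ R.subgroupOf E) :=
    { (inferInstance : Group (E ⧸ R.subgroupOf E)) with
      mul_comm := ((Subgroup.Normal.quotient_commutative_iff_commutator_le (N := R.subgroupOf E)).2
        ((Cfsg.Lib.PGroups.commutator_le_frattini hEp).trans hfr)).is_comm.comm }
  haveI : Module (ZMod 2) (Additive (E ⧸ R.subgroupOf E)) := AddCommGroup.zmodModule fun c => by
    obtain ⟨c, rfl⟩ := Additive.ofMul.surjective c
    obtain ⟨u, rfl⟩ := QuotientGroup.mk_surjective c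
    apply Additive.toMul.injective
    rw [toMul_nsmul, toMul_ofMul, toMul_zero, ← QuotientGroup.mk_pow]
    exact (QuotientGroup.eq_one_iff _).2 (hfr (Cfsg.Lib.PGroups.pow_mem_frattini hEp u))
  set act := sectionAct L E R hLE hLR with hact
  set Γ := act.range with hΓ
  have hrr : Function.Surjective act.rangeRestrict := act.rangeRestrict_surjective
  -- no normal two-subgroup in the induced group
  have hΓO : Cfsg.pCore 2 Γ = ⊥ := by
    set P := Cfsg.pCore 2 Γ with hP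
    have hPp : IsPGroup 2 P := Cfsg.Lib.Components.isPGroup_pCore 2
    haveI hPn : P.Normal := Cfsg.Lib.Components.pCore_normal' 2
    let Fe : Subgroup H :=
      { carrier := {a | ∃ ha : a ∈ E, ∀ γ ∈ P, (γ : MulAut (E ⧸ R.subgroupOf E)) (QuotientGroup.mk ⟨a, ha⟩) =
          QuotientGroup.mk (⟨a, ha⟩ : E)}
        one_mem' := ⟨one_mem E, fun γ _ => map_one (γ : MulAut (E ⧸ R.subgroupOf E))⟩
        mul_mem' := by
          rintro a b ⟨ha, ha'⟩ ⟨hb, hb'⟩
          refine ⟨mul_mem ha hb, fun γ hγ => ?_⟩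
          rw [show (⟨a * b, mul_mem ha hb⟩ : E) = ⟨a, ha⟩ * ⟨b, hb⟩ from rfl, QuotientGroup.mk_mul, map_mul,
            ha' γ hγ, hb' γ hγ]
        inv_mem' := by
          rintro a ⟨ha, ha'⟩
          refine ⟨inv_mem ha, fun γ hγ => ?_⟩
          rw [show (⟨a⁻¹, inv_mem ha⟩ : E) = (⟨a, ha⟩ : E)⁻¹ from rfl, QuotientGroup.mk_inv, map_inv, ha' γ hγ] }
    have hFeR : R ≤ Fe := fun a ha => ⟨hRE ha, fun γ _ => by
      rw [show (QuotientGroup.mk (⟨a, hRE ha⟩ : E) : E ⧸ R.subgroupOf E) = 1 from (QuotientGroup.eq_one_iff _).2 ha,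
        map_one]⟩
    have hLFe : L ≤ normalizer (Fe : Set H) := fun g hg => mem_normalizer_of_conj_le fun a ha0 => by
      obtain ⟨ha, ha'⟩ := ha0
      have hga : g * a * g⁻¹ ∈ E := (mem_normalizer_iff.1 (hLE hg) a).1 ha
      refine ⟨hga, fun γ hγ => ?_⟩
      set gg : Γ := act.rangeRestrict ⟨g, hg⟩ with hgg
      have h := ha' (gg⁻¹ * γ * gg) (by simpa using hPn.conj_mem γ hγ gg⁻¹)
      have he : (gg : MulAut (E ⧸ R.subgroupOf E)) (QuotientGroup.mk ⟨a, ha⟩) =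
          QuotientGroup.mk (⟨g * a * g⁻¹, hga⟩ : E) := sectionAct_mk L E R hLE hLR ⟨g, hg⟩ ⟨a, ha⟩
      rw [← he]
      have h' := congrArg (gg : MulAut (E ⧸ R.subgroupOf E)) h
      simpa using h'
    -- a non-trivial fixed point
    letI : MulAction P (E ⧸ R.subgroupOf E) :=
      MulAction.compHom _ (Γ.subtype.comp P.subtype)
    have hU : Nat.card (E ⧸ R.subgroupOf E) ≠ 1 := by
      intro h
      have h1 : R.subgroupOf E = ⊤ := index_eq_one.1 h
      exact hRne (le_antisymm hRE (subgroupOf_eq_top.1 h1))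
    obtain ⟨i, hi⟩ := IsPGroup.iff_card.1 (hEp.to_quotient (R.subgroupOf E))
    have hdvd : 2 ∣ Nat.card (E ⧸ R.subgroupOf E) := by
      rcases Nat.eq_zero_or_pos i with rfl | h
      · exact absurd (by rw [hi, pow_zero]) hU
      · exact hi ▸ dvd_pow_self 2 h.ne'
    obtain ⟨b, hb, hb1⟩ := hPp.exists_fixed_point_of_prime_dvd_card_of_fixed_point (α := E ⧸ R.subgroupOf E) hdvd
      (a := 1) (fun γ => map_one ((γ : Γ) : MulAut (E ⧸ R.subgroupOf E)))
    obtain ⟨⟨c, hc⟩, rfl⟩ := QuotientGroup.mk_surjective b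
    have hcFe : c ∈ Fe := ⟨hc, fun γ hγ => hb ⟨γ, hγ⟩⟩
    have hFeE : Fe = E := by
      by_contra hne
      refine hRmax Fe ⟨hK₀R.trans hFeR, fun a ha => ha.1, hne, hLFe⟩ (lt_of_le_of_ne hFeR ?_)
      intro e
      exact hb1 ((QuotientGroup.eq_one_iff (⟨c, hc⟩ : E)).2 (e.ge hcFe)).symm
    rw [eq_bot_iff]
    intro γ hγ
    refine mem_bot.2 (Subtype.ext (MulEquiv.ext fun z => ?_))
    obtain ⟨⟨a, ha⟩, rfl⟩ := QuotientGroup.mk_surjective z
    obtain ⟨_, ha'⟩ := hFeE.ge ha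
    exact ha' γ hγ
  have hOStriv : ∀ s, ∀ hs : s ∈ OS, act ⟨s, hOSL hs⟩ = 1 := by
    intro s hs
    have hn : (OS.subgroupOf L).Normal := normal_subgroupOf_of_le_normalizer le_rfl
    haveI : ((OS.comap L.subtype).map act.rangeRestrict).Normal := hn.map _ hrr
    have h := Cfsg.Lib.Components.le_pCore (((hOSp.comap_of_injective _ L.subtype_injective) :
      IsPGroup 2 (OS.subgroupOf L)).map act.rangeRestrict) (mem_map_of_mem _ (show (⟨s, hOSL hs⟩ : L) ∈ OS.subgroupOf L from hs))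
    rw [hΓO, mem_bot] at h
    exact congrArg Subtype.val h
  have hkerL : (π.comp L.subtype).ker ≤ act.rangeRestrict.ker := by
    intro g hg
    refine Subtype.ext (sectionAct_eq_one_of_commute fun a ha => ?_)
    have haO : a ∈ OS := hEOS ha
    refine commutatorElement_eq_one_iff_mul_comm.1 (Cfsg.Lib.Coprime.eq_one_of_coprime (N := OS) (H := π.ker) ?_ ?_ ?_)
    · obtain ⟨i, hi⟩ := IsPGroup.iff_card.1 hOSp
      rw [hi]
      exact hker.symm.pow_left i
    · rw [commutatorElement_def]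
      exact mul_mem ((mem_normalizer_iff.1 g.2 a).1 haO) (inv_mem haO)
    · rw [MonoidHom.mem_ker, map_commutatorElement, show π (g : H) = 1 from hg, commutatorElement_one_left]
  have hOSmax : ∀ (Q : Subgroup H), IsPGroup 2 Q → OS ≤ Q → Q ⊓ M ≤ OS := by
    intro Q hQ hle
    have h : ((Q ⊓ M).subgroupOf M) = (PM : Subgroup M) := PM.is_maximal'
      ((hQ.to_le inf_le_left).comap_of_injective _ M.subtype_injective) (by
        intro z hz
        rw [hPM] at hz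
        exact ⟨hle ⟨hz, z.2⟩, z.2⟩)
    intro z hz
    have h1 : (⟨z, hz.2⟩ : M) ∈ (PM : Subgroup M) := h ▸ (show (⟨z, hz.2⟩ : M) ∈ (Q ⊓ M).subgroupOf M from hz)
    rw [hPM] at h1
    exact ⟨h1, hz.2⟩
  -- the bounds in the induced group
  have hbounds : ∀ (P : Sylow 2 Γ), ∀ γ ∈ (P : Subgroup Γ), γ ^ 2 ^ (k + 1) = 1 ∧
      ((mulAutToEnd 2 (E ⧸ R.subgroupOf E)).comp Γ.subtype γ - 1) ^ (2 ^ (k + 1) - 1) = 0 := by
    intro P γ hγ
    obtain ⟨P', rfl⟩ := Sylow.mapSurjective_surjective hrr 2 P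
    obtain ⟨x, hx, rfl⟩ := hγ
    obtain ⟨S₁, hS₁⟩ := (P'.2.map L.subtype).exists_le_sylow
    have hxS₁ : (x : H) ∈ (S₁ : Subgroup H) := hS₁ (mem_map_of_mem _ hx)
    have hOSS₁ : OS ≤ (S₁ : Subgroup H) := fun s hs => by
      haveI : (OS.comap L.subtype).Normal := (normal_subgroupOf_of_le_normalizer le_rfl : (OS.subgroupOf L).Normal)
      exact hS₁ ⟨⟨s, hOSL hs⟩, Cfsg.Lib.Coprime.pCore_le_sylow 2 P'
        (Cfsg.Lib.Components.le_pCore (hOSp.comap_of_injective _ L.subtype_injective)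
          (show (⟨s, hOSL hs⟩ : L) ∈ OS.subgroupOf L from hs)), rfl⟩
    refine ⟨?_, ?_⟩
    · have h1 : (x : H) ^ 2 ^ (k + 1) ∈ OS := hOSmax _ S₁.2 hOSS₁ ⟨pow_mem hxS₁ _, hpow S₁ _ hxS₁⟩
      rw [← map_pow]
      exact Subtype.ext (hOStriv _ h1)
    set σ := mulAutToEnd 2 (E ⧸ R.subgroupOf E)
    have hsum : ∀ (i : ℕ) (u : E), ∃ h : (u * x : H) ^ i * ((x : H) ^ i)⁻¹ ∈ E,
        Additive.ofMul (QuotientGroup.mk ⟨_, h⟩ : E ⧸ R.subgroupOf E) =
          (∑ j ∈ Finset.range i, σ (act x) ^ j) (Additive.ofMul (QuotientGroup.mk u)) := by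
      intro i
      induction i with
      | zero =>
        intro u
        refine ⟨by simp, ?_⟩
        rw [Finset.sum_range_zero, LinearMap.zero_apply]
        refine congrArg Additive.ofMul ((QuotientGroup.eq_one_iff _).2 ?_)
        show (u * x : H) ^ 0 * ((x : H) ^ 0)⁻¹ ∈ R
        simp
      | succ i ih =>
        intro u
        obtain ⟨h, he⟩ := ih u
        have heq : (u * x : H) ^ (i + 1) * ((x : H) ^ (i + 1))⁻¹ =
            ((u * x : H) ^ i * ((x : H) ^ i)⁻¹) * ((x : H) ^ i * u * ((x : H) ^ i)⁻¹) := by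
          rw [pow_succ (u * x : H) i, pow_succ (x : H) i]; group
        refine ⟨pow_mul_mem (hLE x.2) u.2 _, ?_⟩
        rw [Finset.sum_range_succ, LinearMap.add_apply, ← he, ← map_pow σ, ← map_pow act, mulAutToEnd_apply,
          hact, sectionAct_mk, ← ofMul_mul, ← QuotientGroup.mk_mul]
        congr 2
        exact Subtype.ext heq
    have hpoly := congrArg (Polynomial.aeval (σ (act x))) (geom_sum_eq_pow (p := 2) (k + 1))
    simp only [map_pow, map_sub, Polynomial.aeval_X, map_one, map_sum] at hpoly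
    refine hpoly.trans (LinearMap.ext fun c => ?_)
    obtain ⟨c, rfl⟩ := Additive.ofMul.surjective c
    obtain ⟨u, rfl⟩ := QuotientGroup.mk_surjective c
    obtain ⟨h, he⟩ := hsum (2 ^ (k + 1)) u
    rw [LinearMap.zero_apply, ← he]
    refine congrArg Additive.ofMul ((QuotientGroup.eq_one_iff _).2 (hK₀R ?_))
    exact top_mem_agreeSub ρ (S₁ : Subgroup H) S₁.2 k (hexp S₁) (hdeg S₁) (hEOS.trans hOSS₁) hEN hE4 hxS₁
      (hLE x.2) u.2
  have hσ : Function.Injective ((mulAutToEnd 2 (E ⧸ R.subgroupOf E)).comp Γ.subtype) := fun a b e =>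
    Subtype.ext (MulEquiv.ext fun z => Additive.ofMul.injective (LinearMap.congr_fun e (Additive.ofMul z)))
  have hsolL : Cfsg.IsPSolvable 2 L := Cfsg.Lib.SolvStruct.CoprimeOrbits.isPSolvable_subgroup hsol Nat.prime_two L
  have hsolΓ : Cfsg.IsPSolvable 2 Γ :=
    Cfsg.Lib.Constraint.isPSolvable_of_surjective hrr hsolL
  have hlenΓ : Cfsg.PLengthLE 2 k Γ := hlow Γ (Additive (E ⧸ R.subgroupOf E)) _ hsolΓ hΓO hσ
    (fun P x hx => (hbounds P x hx).1) (fun P x hx => (hbounds P x hx).2)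
  have hsurjL : Function.Surjective (π.comp L.subtype) := fun b => by
    obtain ⟨l, hl, e⟩ := hπL b; exact ⟨⟨l, hl⟩, e⟩
  let φ : Hb →* Γ := (π.comp L.subtype).liftOfSurjective hsurjL ⟨act.rangeRestrict, hkerL⟩
  have hφ : ∀ l : L, φ (π l) = act.rangeRestrict l := fun l =>
    MonoidHom.liftOfRightInverse_comp_apply (π.comp L.subtype) _ _ ⟨act.rangeRestrict, hkerL⟩ l
  have hφs : Function.Surjective φ := fun γ => by
    obtain ⟨l, rfl⟩ := hrr γ; exact ⟨π l, hφ l⟩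
  refine ⟨φ.ker, inferInstance, fun o ho => ?_, fun hle => ?_, ?_⟩
  · obtain ⟨s, hs, rfl⟩ := hOsurj o ho
    show φ (π ((⟨s, hOSL hs⟩ : L) : H)) = 1
    rw [hφ]
    exact Subtype.ext (hOStriv s hs)
  · refine hRne (le_antisymm hRE (hfull.ge.trans (commutator_le.2 fun u hu a ha => ?_)))
    have hk : C₂ ≤ act.ker.map L.subtype := (closure_le _).2 fun b hb =>
      ⟨⟨b, hb.1.1⟩, by
        have h := hle hb.1.2
        rw [MonoidHom.mem_ker, show π b = π ((⟨b, hb.1.1⟩ : L) : H) from rfl, hφ] at h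
        exact congrArg Subtype.val h, rfl⟩
    obtain ⟨a', ha', rfl⟩ := hk ha
    have h := inv_mem (sectionAct_eq_one ha' hu)
    rw [commutatorElement_def]
    rwa [show ((a' : H) * u * (a' : H)⁻¹ * u⁻¹)⁻¹ = u * a' * u⁻¹ * (a' : H)⁻¹ by group] at h
  · exact Cfsg.Lib.PLengthSeries.pLengthLE_map (QuotientGroup.quotientKerEquivOfSurjective φ hφs).symm.toMonoidHom
      (QuotientGroup.quotientKerEquivOfSurjective φ hφs).symm.surjective hlenΓ

end Cfsg.Lib.TwoLength
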