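import Cfsg.Agent.TwoLength.Small

/-!
Small automorphisms that differ by an element of exponent four.
-/

set_option linter.style.haveILetI false
set_option linter.unusedSectionVars false

namespace Cfsg.Lib.TwoLength

open Subgroup

universe u v

variable {A : Type u} [CommGroup A] [Finite A] {C : Type v} [CommGroup C] {c : A →* A →* C}
  {q : ℕ} [hq : Fact q.Prime]

/-- An element that maps the plane into itself maps it onto itself. -/
theorem map_plane_symm {β w : MulAut A} (h : ∀ a ∈ yPlane β, w a ∈ yPlane β) {a : A} (ha : w a ∈ yPlane β) :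
    a ∈ yPlane β := by
  let f : yPlane β → yPlane β := fun p => ⟨w p, h p p.2⟩
  have hf : Function.Injective f := fun p r e => Subtype.ext (w.injective (congrArg Subtype.val e))
  obtain ⟨p, hp⟩ := (Finite.injective_iff_surjective.1 hf) ⟨w a, ha⟩
  exact w.injective (congrArg Subtype.val hp) ▸ p.2

/-- An element of order dividing four keeps the plane, when its product with the small automorphism has
order dividing four. -/
theorem SmallAut.plane_map (hq4 : q % 4 = 3) (hc : GoodForm c) (T : Subgroup (MulAut A)) (hT : IsPGroup 2 T)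
    (hTc : ∀ t ∈ T, KeepsForm c t) {β w : MulAut A} (hβT : β ∈ T) (hwT : w ∈ T) (hβ : SmallAut q β)
    (hw4 : ∀ a, w (w (w (w a))) = a) (hγ4 : ∀ a, w (β (w (β (w (β (w (β a))))))) = a) :
    ∀ a ∈ yPlane β, w a ∈ yPlane β := by
  have hpair : ∀ t ∈ T, PlanePair β (t * β * t⁻¹) := fun t ht =>
    small_pair hq4 hc _ T le_rfl hT hTc β hβT _ (mul_mem (mul_mem ht hβT) (inv_mem ht)) hβ (hβ.conj t)
  have hinv : ∀ a, w⁻¹ a = w (w (w a)) := fun a => w.injective (by rw [hw4, MulAut.apply_inv_self])
  rcases hpair w hwT with h | ⟨hfix, -⟩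
  · intro a ha
    rw [h, mem_yPlane_conj, MulAut.inv_apply_self]
    exact ha
  intro p hp
  have hβp : β p ∈ yPlane β := by rw [mem_yPlane, mem_yPlane.1 hp, map_inv]
  have hne : p = 1 := by
    have h1 : ∀ r ∈ yPlane β, β (w r) = w r := fun r hr =>
      hfix _ (mem_yPlane_conj.2 (by rwa [MulAut.inv_apply_self]))
    have h4 := hγ4 p
    rw [h1 (β p) hβp] at h4
    -- now `h4` has the square of `w` applied to the plane
    rcases hpair (w * w) (mul_mem hwT hwT) with h | ⟨hfix2, -⟩
    · have hpres : ∀ a ∈ yPlane β, w (w a) ∈ yPlane β := fun a ha => by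
        rw [h, mem_yPlane_conj]
        rwa [show (w * w)⁻¹ (w (w a)) = a from (w * w).injective (by rw [MulAut.apply_inv_self]; rfl)]
      rcases plane_scalar (t := w * w) hc (hTc β hβT) hβ (sq_keeps (hTc w hwT)) (fun a => hw4 a) hpres with hs | hs
      · have e1 : w (w (β p)) = β p := hs _ hβp
        rw [e1, h1 (β (β p)) (by rw [mem_yPlane.1 hp]; exact inv_mem hp)] at h4
        rw [show w (w (β (β p))) = β (β p) from hs _ (by rw [mem_yPlane.1 hp]; exact inv_mem hp),
          mem_yPlane.1 hp] at h4
        exact eq_one_of_eq_inv hc h4.symm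
      · have e1 : w (w (β p)) = (β p)⁻¹ := hs _ hβp
        rw [e1, map_inv, map_inv, map_inv, map_inv, h1 (β (β p)) (by rw [mem_yPlane.1 hp]; exact inv_mem hp)] at h4
        rw [show w (w (β (β p))) = (β (β p))⁻¹ from hs _ (by rw [mem_yPlane.1 hp]; exact inv_mem hp),
          inv_inv, mem_yPlane.1 hp] at h4
        exact eq_one_of_eq_inv hc h4.symm
    · have e2 : β (w (w (β p))) = w (w (β p)) := hfix2 _ (mem_yPlane_conj.2 (by
        rwa [show (w * w)⁻¹ (w (w (β p))) = β p from (w * w).injective (by rw [MulAut.apply_inv_self]; rfl)]))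
      rw [e2] at h4
      rcases hpair w⁻¹ (inv_mem hwT) with h | ⟨hfix3, -⟩
      · have hpl : w (β p) ∈ yPlane β := by
          refine map_plane_symm (β := β) (w := w⁻¹) (fun a ha => ?_) (by rwa [MulAut.inv_apply_self])
          rw [h, mem_yPlane_conj, inv_inv, MulAut.apply_inv_self]
          exact ha
        have h5 := mem_yPlane.1 hpl
        rw [h1 _ hβp, h1 _ hβp] at h5
        exact eq_one_of_eq_inv hc (β.injective (w.injective (by rw [map_inv, map_inv]; exact h5)))
      · have e3 : β (w (w (w (β p)))) = w (w (w (β p))) := hfix3 _ (mem_yPlane_conj.2 (by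
          rwa [inv_inv, hw4]))
        rw [e3, hw4] at h4
        have h5 := mem_yPlane.1 hp
        rw [h4, h4] at h5
        exact eq_one_of_eq_inv hc h5
  subst hne
  rw [map_one]
  exact one_mem _

/-- The squares of two small automorphisms that differ by an element of order four differ by the square of
that element. -/
theorem SmallAut.sq_ratio (hq4 : q % 4 = 3) (hc : GoodForm c) (T : Subgroup (MulAut A)) (hT : IsPGroup 2 T)
    (hTc : ∀ t ∈ T, KeepsForm c t) {β w : MulAut A} (hβT : β ∈ T) (hwT : w ∈ T) (hβ : SmallAut q β)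
    (hw4 : ∀ a, w (w (w (w a))) = a)
    (hγ : (∀ a, (w * β) ((w * β) a) = a) ∨ SmallAut q (w * β)) :
    (∀ a, (w * β) ((w * β) a) = β (β a)) ∨ (∀ a, (w * β) ((w * β) a) = w (w (β (β a)))) ∨
      ∀ a, (w * β) ((w * β) a) = w⁻¹ (w⁻¹ (β (β a))) := by
  have hγ4 : ∀ a, (w * β) ((w * β) ((w * β) ((w * β) a))) = a := by
    rcases hγ with h | h
    · exact fun a => by rw [h, h]
    · exact h.four
  have hγT : w * β ∈ T := mul_mem hwT hβT
  have hβc := hTc β hβT
  have hwc := hTc w hwT
  have hP : ∀ a ∈ yPlane β, w a ∈ yPlane β := hβ.plane_map hq4 hc T hT hTc hβT hwT hw4 hγ4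
  have hβP : ∀ a ∈ yPlane β, β a ∈ yPlane β := fun a ha => by rw [mem_yPlane, mem_yPlane.1 ha, map_inv]
  have hfix : ∀ r, β r = r → β (w r) = w r := by
    intro r hr
    refine (hβ.fixed_iff hc hβc).2 fun p hp => ?_
    have hp' : w⁻¹ p ∈ yPlane β := map_plane_symm hP (by rwa [MulAut.apply_inv_self])
    have h := hwc (w⁻¹ p) r
    rw [MulAut.apply_inv_self] at h
    rw [h]
    exact hβ.cross hc hβc hp' hr
  have hcomm : (∀ p ∈ yPlane β, w (β p) = β (w p)) → ∀ a, (w * β) ((w * β) a) = w (w (β (β a))) := by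
    intro h a
    obtain ⟨p, r, rfl, hp, hr⟩ := hβ.split hc a
    simp only [MulAut.mul_apply, map_mul]
    rw [hr, hfix r hr, hr, ← h (β p) (hβP p hp)]
  rcases plane_scalar (t := w * w) hc hβc hβ (sq_keeps hwc) (fun a => hw4 a) (fun a ha => hP _ (hP a ha)) with
    hs | hs
  · -- `w` is an involution on the plane
    refine Or.inr (Or.inl (hcomm ?_))
    have hone : ∀ a ∈ yPlane β, w a = a ∨ w a = a⁻¹ := by
      intro a ha
      have hwwa : w (w a) = a := hs a ha
      have hp1 : w (a * (w a)⁻¹) = (a * (w a)⁻¹)⁻¹ := by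
        rw [map_mul, map_inv, hwwa, mul_inv, inv_inv, mul_comm]
      have hr1 : w (a * w a) = a * w a := by rw [map_mul, hwwa, mul_comm]
      by_cases h0 : a * (w a)⁻¹ = 1
      · exact Or.inl (mul_inv_eq_one.1 h0).symm
      refine Or.inr ?_
      obtain ⟨-, i, hi⟩ := hβ.mem_zpowers_of_form hc hβc (mul_mem ha (inv_mem (hP a ha))) (mul_mem ha (hP a ha)) h0
        (cross_eq_one hc w hwc hp1 hr1)
      change (a * (w a)⁻¹) ^ i = a * w a at hi
      have h1 : a * w a = (a * w a)⁻¹ := by
        conv_lhs => rw [← hr1, ← hi, map_zpow, hp1, inv_zpow, hi]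
      exact eq_inv_of_mul_eq_one_right (eq_one_of_eq_inv hc h1)
    intro p hp
    rcases hone p hp with h | h <;> rcases hone (β p) (hβP p hp) with h' | h'
    · rw [h, h']
    · -- the two cases cannot mix
      rcases hone (p * β p) (mul_mem hp (hβP p hp)) with h'' | h''
      · rw [map_mul, h, h'] at h''
        have h2 : β p = 1 := eq_one_of_eq_inv hc (mul_left_cancel h'').symm
        rw [h, h2, map_one]
      · rw [map_mul, h, h', mul_inv] at h''
        have h2 : p = 1 := eq_one_of_eq_inv hc (mul_right_cancel h'')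
        rw [h2, map_one, map_one, map_one]
    · rcases hone (p * β p) (mul_mem hp (hβP p hp)) with h'' | h''
      · rw [map_mul, h, h'] at h''
        have h2 : p = 1 := eq_one_of_eq_inv hc (mul_right_cancel h'').symm
        rw [h2, map_one, map_one, map_one]
      · rw [map_mul, h, h', mul_inv] at h''
        have h2 : β p = 1 := eq_one_of_eq_inv hc (mul_left_cancel h'')
        rw [h', h, map_inv, h2, inv_one]
    · rw [h, h', map_inv]
  · rcases hγ with hg | hg
    · -- the product is an involution
      refine Or.inr (Or.inr fun a => ?_)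
      rw [hg]
      refine (w.injective (w.injective ?_)).symm
      rw [MulAut.apply_inv_self, MulAut.apply_inv_self]
      obtain ⟨p, r, rfl, hp, hr⟩ := hβ.split hc a
      have h1 := hg r
      simp only [MulAut.mul_apply] at h1
      rw [hr, hfix r hr] at h1
      simp only [map_mul]
      rw [show w (w p) = p⁻¹ from hs p hp, h1, mem_yPlane.1 hp, hr, hr]
    · have hγc := hTc _ hγT
      have hPP : ∀ a ∈ yPlane β, ((w * β) * (w * β)) a ∈ yPlane β := fun a ha =>
        hP _ (hβP _ (hP _ (hβP a ha)))
      rcases plane_scalar (t := (w * β) * (w * β)) hc hβc hβ (sq_keeps hγc) (fun a => hγ4 a) hPP with ht | ht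
      · refine Or.inr (Or.inl (hcomm ?_))
        have hwb : ∀ p ∈ yPlane β, w (β p) = p := fun p hp => hg.fixed p (ht p hp)
        intro p hp
        rw [hwb p hp]
        have h1 := hwb (β (β (β p))) (hβP _ (hβP _ (hβP p hp)))
        rw [hβ.four] at h1
        rw [h1, hβ.four]
      · refine Or.inl fun a => ?_
        refine hβ.sq_eq hc hβc hγc hg ?_ a
        refine Subgroup.eq_of_le_of_card_ge (fun x hx => mem_yPlane.2 (ht x hx)) (le_of_eq ?_)
        rw [hg.card, hβ.card]

end Cfsg.Lib.TwoLength
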