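import Cfsg.Agent.TwoLength.Bryukhanova.Plane
import Cfsg.Agent.TwoLength.Bryukhanova.Faithful

/-!
The highest powers of two elements that differ by an element of exponent four of `normFix` differ, at each
character, by a square of that element.
-/

set_option linter.style.haveILetI false
set_option linter.unusedSectionVars false

namespace Cfsg.Lib.TwoLength

open Module Subgroup Cfsg.Lib.HallHigman

universe u v w

variable {H : Type w} [Group H] [Finite H] {K : Type u} [Field K] [IsAlgClosed K] [CharP K 2] {V : Type v}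
  [AddCommGroup V] [Module K V] [FiniteDimensional K V] [Nontrivial V] {q : ℕ} [Fact q.Prime] {Q : Subgroup H}
  [Fact (ClassTwo Q)]

/-- The highest powers at one character. -/
theorem char_square (hq2 : q ≠ 2) [hQn : Q.Normal] (ρ : H →* Module.End K V) (hQ : IsPGroup q Q) (S : Subgroup H)
    (hS : IsPGroup 2 S) (k : ℕ) (hexp : ∀ s ∈ S, s ^ 2 ^ (k + 2) = 1)
    (hdeg : ∀ s ∈ S, (ρ s - 1) ^ (2 ^ (k + 2) - 1) = 0) (g x : H) (hg : g ∈ S) (hx : x ∈ S)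
    (e : H) (hge : g ^ 2 ^ k = e * x ^ 2 ^ k) (heF : e ∈ normFix H) (he4 : e ^ 4 = 1)
    (χ : cenIn Q →* Kˣ) (v : V) (hv0 : v ≠ 0) (hv : v ∈ charSpace ρ χ) :
    ∃ f ∈ zpowers (e ^ 2), ∀ hm : g ^ 2 ^ (k + 1) * (x ^ 2 ^ (k + 1))⁻¹ * f⁻¹ ∈ stabChar χ,
      actQuot χ ⟨_, hm⟩ = 1 := by
  classical
  haveI : Fact (Nat.Prime 2) := ⟨Nat.prime_two⟩
  have hN : ∀ h : H, h ∈ normalizer (Q : Set H) := fun h => by rw [normalizer_eq_top_iff.2 hQn]; exact mem_top h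
  obtain ⟨hy, hcy⟩ := support hq2 ρ hQ χ v hv0 hv x (k + 1) (hexp x hx) (hdeg x hx) (hN x)
  obtain ⟨hy', hcy'⟩ := support hq2 ρ hQ χ v hv0 hv g (k + 1) (hexp g hg) (hdeg g hg) (hN g)
  have heχ : e ∈ stabChar χ := normFix_le_stab hq2 hQ χ heF
  have hbb : ∀ a : H, a ^ 2 ^ k * a ^ 2 ^ k = a ^ 2 ^ (k + 1) := fun a => by
    rw [← pow_add, ← two_mul, ← pow_succ']
  have hodd : Odd (Nat.card Q) := by
    obtain ⟨m, hm⟩ := IsPGroup.iff_card.1 hQ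
    rw [hm]
    exact ((Fact.out : q.Prime).odd_of_ne_two hq2).pow
  have hc := goodForm χ hodd
  have heS : e ∈ S := by
    rw [show e = g ^ 2 ^ k * (x ^ 2 ^ k)⁻¹ by rw [hge, mul_inv_cancel_right]]
    exact mul_mem (pow_mem hg _) (inv_mem (pow_mem hx _))
  set T : Subgroup (MulAut (CharQuot χ)) := (S.subgroupOf (stabChar χ)).map (actQuot χ) with hT
  have hTp : IsPGroup 2 T := (hS.comap_of_injective _ (stabChar χ).subtype_injective).map _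
  have hTc : ∀ t ∈ T, KeepsForm (formQuot χ) t := by rintro _ ⟨m, -, rfl⟩; exact actQuot_keeps χ m
  have hmemT : ∀ m : stabChar χ, (m : H) ∈ S → actQuot χ m ∈ T := fun m h => ⟨m, h, rfl⟩
  set w := actQuot χ ⟨e, heχ⟩ with hw
  have hw4' : w ^ 4 = 1 := by
    rw [hw, ← map_pow, show (⟨e, heχ⟩ : stabChar χ) ^ 4 = 1 from Subtype.ext he4, map_one]
  have hw4 : ∀ a, w (w (w (w a))) = a := fun a => DFunLike.congr_fun hw4' a
  -- the two squares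
  have finish : ∀ (hb : x ^ 2 ^ k ∈ stabChar χ) (β : MulAut (CharQuot χ)), β = actQuot χ ⟨_, hb⟩ →
      ((∀ a, (w * β) ((w * β) a) = β (β a)) ∨ (∀ a, (w * β) ((w * β) a) = w (w (β (β a)))) ∨
        ∀ a, (w * β) ((w * β) a) = w⁻¹ (w⁻¹ (β (β a)))) →
      ∃ f ∈ zpowers (e ^ 2), ∀ hm : g ^ 2 ^ (k + 1) * (x ^ 2 ^ (k + 1))⁻¹ * f⁻¹ ∈ stabChar χ,
        actQuot χ ⟨_, hm⟩ = 1 := by
    intro hb β hβ hcases
    have hb' : g ^ 2 ^ k ∈ stabChar χ := hge ▸ mul_mem heχ hb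
    have hγ : actQuot χ ⟨_, hb'⟩ = w * β := by
      rw [hw, hβ, ← map_mul]; congr 1; exact Subtype.ext hge
    have h2 : actQuot χ ⟨_, hy'⟩ = (w * β) * (w * β) := by
      rw [← hγ, ← map_mul]; congr 1; exact Subtype.ext (hbb g).symm
    have h1 : actQuot χ ⟨_, hy⟩ = β * β := by
      rw [hβ, ← map_mul]; congr 1; exact Subtype.ext (hbb x).symm
    have key : ∀ (f : H) (hf : f ∈ stabChar χ), (w * β) * (w * β) = actQuot χ ⟨f, hf⟩ * (β * β) →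
        ∀ hm : g ^ 2 ^ (k + 1) * (x ^ 2 ^ (k + 1))⁻¹ * f⁻¹ ∈ stabChar χ, actQuot χ ⟨_, hm⟩ = 1 := by
      intro f hf he hm
      rw [show (⟨_, hm⟩ : stabChar χ) = ⟨_, hy'⟩ * (⟨_, hy⟩ : stabChar χ)⁻¹ * (⟨f, hf⟩ : stabChar χ)⁻¹ from
        Subtype.ext rfl, map_mul, map_mul, map_inv, map_inv, h2, he, h1, mul_inv_cancel_right, mul_inv_cancel]
    rcases hcases with h | h | h
    · refine ⟨1, one_mem _, key 1 (one_mem _) ?_⟩
      rw [show (⟨1, one_mem _⟩ : stabChar χ) = 1 from rfl, map_one, one_mul]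
      exact MulEquiv.ext h
    · refine ⟨e ^ 2, mem_zpowers _, key _ (pow_mem heχ 2) ?_⟩
      rw [show (⟨e ^ 2, pow_mem heχ 2⟩ : stabChar χ) = ⟨e, heχ⟩ * ⟨e, heχ⟩ from Subtype.ext (pow_two e),
        map_mul, ← hw]
      exact MulEquiv.ext h
    · refine ⟨(e ^ 2)⁻¹, inv_mem (mem_zpowers _), key _ (inv_mem (pow_mem heχ 2)) ?_⟩
      rw [show (⟨(e ^ 2)⁻¹, inv_mem (pow_mem heχ 2)⟩ : stabChar χ) = (⟨e, heχ⟩ : stabChar χ)⁻¹ * (⟨e, heχ⟩ : stabChar χ)⁻¹ from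
        Subtype.ext (show (e ^ 2)⁻¹ = e⁻¹ * e⁻¹ by rw [pow_two, mul_inv_rev]), map_mul, map_inv, ← hw]
      exact MulEquiv.ext h
  rcases hcy with hy1 | ⟨hq4, -, hb, hsm⟩
  · rcases hcy' with hy'1 | ⟨hq4, -, hb', hsm'⟩
    · refine ⟨1, one_mem _, fun hm => ?_⟩
      rw [show (⟨_, hm⟩ : stabChar χ) = ⟨_, hy'⟩ * (⟨_, hy⟩ : stabChar χ)⁻¹ from
        Subtype.ext (by show g ^ 2 ^ (k + 1) * (x ^ 2 ^ (k + 1))⁻¹ * 1⁻¹ = _; rw [inv_one, mul_one]; rfl),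
        map_mul, map_inv, hy1, hy'1, inv_one, mul_one]
    · simp only [Nat.add_sub_cancel] at hb' hsm'
      have hb : x ^ 2 ^ k ∈ stabChar χ := by
        rw [show x ^ 2 ^ k = e⁻¹ * g ^ 2 ^ k by rw [hge]; group]
        exact mul_mem (inv_mem heχ) hb'
      set β := actQuot χ ⟨_, hb⟩ with hβ
      set γ := actQuot χ ⟨_, hb'⟩ with hγ
      have hγeq : γ = w * β := by rw [hγ, hw, hβ, ← map_mul]; congr 1; exact Subtype.ext hge
      have hsm'' : SmallAut q γ := hsm'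
      have hβγ : w⁻¹ * γ = β := by rw [hγeq, inv_mul_cancel_left]
      have hβ2 : β * β = 1 := by
        rw [hβ, ← map_mul, ← hy1]; congr 1; exact Subtype.ext (hbb x)
      refine finish hb β hβ ?_
      have hwi4 : ∀ a, w⁻¹ (w⁻¹ (w⁻¹ (w⁻¹ a))) = a := fun a => by
        conv_lhs => rw [← hw4 a]
        simp
      rcases hsm''.sq_ratio hq4 hc T hTp hTc (hmemT _ (pow_mem hg _)) (inv_mem (hmemT _ heS)) hwi4
        (Or.inl fun a => by rw [hβγ]; exact DFunLike.congr_fun hβ2 a) with h | h | h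
      · refine Or.inl fun a => ?_
        rw [← hγeq, ← h, hβγ]
      · refine Or.inr (Or.inl fun a => ?_)
        have h1 := h a
        rw [hβγ] at h1
        rw [← hγeq, h1]
        simp [hw, hγ]
      · refine Or.inr (Or.inr fun a => ?_)
        have h1 := h a
        rw [hβγ, inv_inv] at h1
        rw [← hγeq, h1]
        simp [hw, hγ]
  · simp only [Nat.add_sub_cancel] at hb hsm
    set β := actQuot χ ⟨_, hb⟩ with hβ
    have hsm'' : SmallAut q β := hsm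
    have hb' : g ^ 2 ^ k ∈ stabChar χ := hge ▸ mul_mem heχ hb
    have hγeq : actQuot χ ⟨_, hb'⟩ = w * β := by rw [hw, hβ, ← map_mul]; congr 1; exact Subtype.ext hge
    refine finish hb β hβ (hsm''.sq_ratio hq4 hc T hTp hTc (hmemT _ (pow_mem hx _)) (hmemT _ heS) hw4 ?_)
    rcases hcy' with hy'1 | ⟨-, -, hb'', hsm'⟩
    · refine Or.inl fun a => ?_
      have h2 : (w * β) * (w * β) = 1 := by
        rw [← hγeq, ← map_mul, ← hy'1]; congr 1; exact Subtype.ext (hbb g)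
      exact DFunLike.congr_fun h2 a
    · refine Or.inr ?_
      simp only [Nat.add_sub_cancel] at hsm'
      rw [← hγeq]
      exact hsm'

variable (ρ : H →* Module.End K V)

/-- The elements of `E` that agree, at every character of every normal group of class two, with an element
of `F`. -/
def agreeSub (E F : Subgroup H) (hE : E ≤ normFix H) (hF : F ≤ E) : Subgroup H where
  carrier := {d | d ∈ E ∧ ∀ (q : ℕ) [Fact q.Prime] (Q : Subgroup H) [Fact (ClassTwo Q)], q ≠ 2 → IsPGroup q Q →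
    Q.Normal → ∀ (χ : cenIn Q →* Kˣ) (v : V), v ≠ 0 → v ∈ charSpace ρ χ →
      ∃ f ∈ F, ∀ hm : d * f⁻¹ ∈ stabChar χ, actQuot χ ⟨_, hm⟩ = 1}
  one_mem' := ⟨one_mem E, fun q _ Q _ _ _ _ χ v _ _ => ⟨1, one_mem F, fun hm => by
    rw [show (⟨_, hm⟩ : stabChar χ) = 1 from Subtype.ext (show (1 : H) * 1⁻¹ = 1 by simp), map_one]⟩⟩
  mul_mem' := by
    rintro a b ⟨haE, ha⟩ ⟨hbE, hb⟩
    refine ⟨mul_mem haE hbE, fun q _ Q _ h1 h2 h3 χ v h4 h5 => ?_⟩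
    obtain ⟨f, hf, hf'⟩ := ha q Q h1 h2 h3 χ v h4 h5
    obtain ⟨f', hf2, hf2'⟩ := hb q Q h1 h2 h3 χ v h4 h5
    haveI := h3
    have haS : a ∈ stabChar χ := normFix_le_stab h1 h2 χ (hE haE)
    have hm1 : a * f⁻¹ ∈ stabChar χ := mul_mem haS (inv_mem (normFix_le_stab h1 h2 χ (hE (hF hf))))
    have hm2 : b * f'⁻¹ ∈ stabChar χ :=
      mul_mem (normFix_le_stab h1 h2 χ (hE hbE)) (inv_mem (normFix_le_stab h1 h2 χ (hE (hF hf2))))
    refine ⟨f * f', mul_mem hf hf2, fun hm => ?_⟩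
    rw [show (⟨_, hm⟩ : stabChar χ) = (⟨a, haS⟩ * ⟨_, hm2⟩ * (⟨a, haS⟩ : stabChar χ)⁻¹) * ⟨_, hm1⟩ from
      Subtype.ext (show a * b * (f * f')⁻¹ = a * (b * f'⁻¹) * a⁻¹ * (a * f⁻¹) by group), map_mul, map_mul,
      map_mul, map_inv, hf' hm1, hf2' hm2]
    simp
  inv_mem' := by
    rintro a ⟨haE, ha⟩
    refine ⟨inv_mem haE, fun q _ Q _ h1 h2 h3 χ v h4 h5 => ?_⟩
    obtain ⟨f, hf, hf'⟩ := ha q Q h1 h2 h3 χ v h4 h5
    haveI := h3
    have haS : a ∈ stabChar χ := normFix_le_stab h1 h2 χ (hE haE)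
    have hm1 : a * f⁻¹ ∈ stabChar χ := mul_mem haS (inv_mem (normFix_le_stab h1 h2 χ (hE (hF hf))))
    refine ⟨f⁻¹, inv_mem hf, fun hm => ?_⟩
    rw [show (⟨_, hm⟩ : stabChar χ) = (⟨a, haS⟩ : stabChar χ)⁻¹ * (⟨_, hm1⟩ : stabChar χ)⁻¹ * ⟨a, haS⟩ from
      Subtype.ext (show a⁻¹ * f⁻¹⁻¹ = a⁻¹ * (a * f⁻¹)⁻¹ * a by group), map_mul, map_mul, map_inv, map_inv, hf' hm1,
      inv_one, mul_one, inv_mul_cancel]

theorem agreeSub_le {E F : Subgroup H} (hE : E ≤ normFix H) (hF : F ≤ E) : agreeSub ρ E F hE hF ≤ E :=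
  fun _ h => h.1

theorem le_agreeSub {E F : Subgroup H} (hE : E ≤ normFix H) (hF : F ≤ E) : F ≤ agreeSub ρ E F hE hF :=
  fun f hf => ⟨hF hf, fun _ _ _ _ _ _ _ χ _ _ _ => ⟨f, hf, fun hm => by
    rw [show (⟨_, hm⟩ : stabChar χ) = 1 from Subtype.ext (mul_inv_cancel f), map_one]⟩⟩

theorem agreeSub_conj {E F : Subgroup H} (hE : E ≤ normFix H) (hF : F ≤ E) {g : H}
    (hgE : g ∈ normalizer (E : Set H)) (hgF : g ∈ normalizer (F : Set H)) :
    g ∈ normalizer (agreeSub ρ E F hE hF : Set H) := by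
  refine mem_normalizer_of_conj_le fun d hd => ⟨(mem_normalizer_iff.1 hgE d).1 hd.1, fun q _ Q _ h1 h2 h3 χ v h4 h5 => ?_⟩
  have hN : ∀ h : H, h ∈ normalizer (Q : Set H) := fun h => by rw [normalizer_eq_top_iff.2 h3]; exact mem_top h
  set χ' := conjChar χ (hN g) with hχ'
  have hv' : ρ g⁻¹ v ∈ charSpace ρ χ' := mem_charSpace.2 fun z => by
    have h3' : (z : H) * g⁻¹ = g⁻¹ * (g * z * g⁻¹) := by group
    rw [← Module.End.mul_apply, ← map_mul, h3', map_mul, Module.End.mul_apply,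
      mem_charSpace.1 h5 ⟨_, cen_conj (hN g) z.2⟩, map_smul]
    rfl
  have hv'0 : ρ g⁻¹ v ≠ 0 := fun h => h4 (by
    have := congrArg (ρ g) h
    rwa [← Module.End.mul_apply, ← map_mul, mul_inv_cancel, map_one, Module.End.one_apply, map_zero] at this)
  obtain ⟨f, hf, hf'⟩ := hd.2 q Q h1 h2 h3 χ' (ρ g⁻¹ v) hv'0 hv'
  refine ⟨g * f * g⁻¹, (mem_normalizer_iff.1 hgF f).1 hf, fun hm => ?_⟩
  haveI := h3
  have hback : d * f⁻¹ ∈ stabChar χ' :=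
    mul_mem (normFix_le_stab h1 h2 χ' (hE hd.1)) (inv_mem (normFix_le_stab h1 h2 χ' (hE (hF hf))))
  have hχ : conjChar χ' (hN g⁻¹) = χ := MonoidHom.ext fun z => congrArg χ (Subtype.ext (by
    show g * (g⁻¹ * (z : H) * g⁻¹⁻¹) * g⁻¹ = z
    group))
  have hm' : g * d * g⁻¹ * (g * f * g⁻¹)⁻¹ ∈ stabChar (conjChar χ' (hN g⁻¹)) := by rw [hχ]; exact hm
  have hmem : g⁻¹ * (g * d * g⁻¹ * (g * f * g⁻¹)⁻¹) * g⁻¹⁻¹ ∈ stabChar χ' := by
    rwa [show g⁻¹ * (g * d * g⁻¹ * (g * f * g⁻¹)⁻¹) * g⁻¹⁻¹ = d * f⁻¹ by group]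
  have h6 := actQuot_conjChar χ' (hN g⁻¹) hm' hmem (by
    rw [show (⟨_, hmem⟩ : stabChar χ') = ⟨_, hback⟩ from Subtype.ext (by
      show g⁻¹ * (g * d * g⁻¹ * (g * f * g⁻¹)⁻¹) * g⁻¹⁻¹ = d * f⁻¹; group)]
    exact hf' hback)
  rw [actQuot_eq_one_iff] at h6 ⊢
  intro a b
  have h7 := h6 a b
  simp only [hχ] at h7
  exact h7

/-- Not every element agrees with one of the Frattini subgroup. -/
theorem agreeSub_ne (hsol : Cfsg.IsPSolvable 2 H) (hO : Cfsg.pCore 2 H = ⊥) (hρ : Function.Injective ρ)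
    {E : Subgroup H} (hE : E ≤ normFix H) (hEp : IsPGroup 2 E) (hE1 : E ≠ ⊥) :
    agreeSub ρ E ((frattini E).map E.subtype) hE (map_subtype_le _) ≠ E := by
  intro h
  refine hE1 ((eq_bot_iff_forall _).2 fun d hd => ?_)
  obtain ⟨i, hi⟩ := hEp ⟨d, hd⟩
  have hdi : d ^ 2 ^ i = 1 := by simpa [Subtype.ext_iff] using hi
  refine eq_one_of_trivial_action (K := K) (V := V) hsol hO ρ hρ (hE hd) hdi
    fun q _ Q _ h1 h2 h3 χ v h4 h5 hm => ?_
  haveI := h3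
  have hall : E ≤ stabChar χ := fun a ha => normFix_le_stab h1 h2 χ (hE ha)
  have key : ∀ (N : Subgroup E), (∀ a : E, a ∈ N ↔ actQuot χ ⟨(a : H), hall a.2⟩ = 1) →
      actQuot χ ⟨d, hm⟩ = 1 := by
    intro N hN
    have htop : N = ⊤ := frattini_nongenerating (by
      refine eq_top_iff.2 fun a _ => ?_
      obtain ⟨f, hf, hf'⟩ := (h.ge a.2).2 q Q h1 h2 h3 χ v h4 h5
      obtain ⟨f₀, hf₀, rfl⟩ := hf
      have hmem : a * f₀⁻¹ ∈ N := (hN _).2 (hf' (mul_mem (hall a.2) (inv_mem (hall f₀.2))))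
      have hmul := mul_mem (mem_sup_left (T := frattini E) hmem) (mem_sup_right (S := N) hf₀)
      rwa [inv_mul_cancel_right] at hmul)
    exact (hN ⟨d, hd⟩).1 (htop ▸ mem_top _)
  exact key ((actQuot χ).comp (Subgroup.inclusion hall)).ker fun a => MonoidHom.mem_ker

theorem pow_mul_mem {E : Subgroup H} {x : H} (hx : x ∈ normalizer (E : Set H)) {u : H} (hu : u ∈ E) :
    ∀ i : ℕ, (u * x) ^ i * (x ^ i)⁻¹ ∈ E := by
  intro i
  induction i with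
  | zero => simp
  | succ i ih =>
    rw [show (u * x) ^ (i + 1) * (x ^ (i + 1))⁻¹ = ((u * x) ^ i * (x ^ i)⁻¹) * (x ^ i * u * (x ^ i)⁻¹) by
      rw [pow_succ (u * x) i, pow_succ x i]; group]
    exact mul_mem ih ((mem_normalizer_iff.1 (pow_mem hx i) u).1 hu)

/-- The highest powers agree with the Frattini subgroup. -/
theorem top_mem_agreeSub (S : Subgroup H) (hS : IsPGroup 2 S) (k : ℕ) (hexp : ∀ s ∈ S, s ^ 2 ^ (k + 2) = 1)
    (hdeg : ∀ s ∈ S, (ρ s - 1) ^ (2 ^ (k + 2) - 1) = 0) {E : Subgroup H} (hES : E ≤ S) (hE : E ≤ normFix H)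
    (hE4 : ∀ e ∈ E, e ^ 4 = 1) {x u : H} (hx : x ∈ S) (hxE : x ∈ normalizer (E : Set H)) (hu : u ∈ E) :
    (u * x) ^ 2 ^ (k + 1) * (x ^ 2 ^ (k + 1))⁻¹ ∈
      agreeSub ρ E ((frattini E).map E.subtype) hE (map_subtype_le _) := by
  haveI : Fact (Nat.Prime 2) := ⟨Nat.prime_two⟩
  refine ⟨pow_mul_mem hxE hu _, fun q _ Q _ h1 h2 h3 χ v h4 h5 => ?_⟩
  haveI := h3
  set e := (u * x) ^ 2 ^ k * (x ^ 2 ^ k)⁻¹ with he
  have heE : e ∈ E := pow_mul_mem hxE hu _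
  obtain ⟨f, hf, hf'⟩ := char_square h1 ρ h2 S hS k hexp hdeg (u * x) x (mul_mem (hES hu) hx) hx e
    (by rw [he, inv_mul_cancel_right]) (hE heE) (hE4 e heE) χ v h4 h5
  refine ⟨f, ?_, hf'⟩
  have hEp : IsPGroup 2 E := hS.to_le hES
  refine zpowers_le.2 ?_ hf
  exact ⟨(⟨e, heE⟩ : E) ^ 2, Cfsg.Lib.PGroups.pow_mem_frattini hEp _, rfl⟩

end Cfsg.Lib.TwoLength
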